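import Cfsg.Prelude.Def_Spor_Th
import Cfsg.Prelude.Def_KGroupFacts
import Cfsg.Agent.H83.ThMult.Data.RelData

/-!
Lifts of the eight generators of the presented Thompson group to a stem extension, the central
defects of the 39 relators, and a choice of lifts normalising eight of them.
-/

set_option autoImplicit false

namespace Cfsg.Agent.H83.ThMult

open Cfsg.Spor
open Cfsg.Agent.H45 (evalW evalW_cons evalW_nil)
open scoped IsMulCommutative

variable {G K : Type*} [Group G] [Group K]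

/-- the value of a letter -/
def letE (f : Th.Gen → G) : ℕ → G
  | 0 => f .a
  | 1 => (f .a)⁻¹
  | 2 => f .b
  | 3 => (f .b)⁻¹
  | 4 => f .c
  | 5 => (f .c)⁻¹
  | 6 => f .d
  | 7 => (f .d)⁻¹
  | 8 => f .e
  | 9 => (f .e)⁻¹
  | 10 => f .s
  | 11 => (f .s)⁻¹
  | 12 => f .t
  | 13 => (f .t)⁻¹
  | 14 => f .u
  | 15 => (f .u)⁻¹
  | _ => 1

theorem letE_none (f : Th.Gen → G) : letE f 31 = 1 := rfl

theorem invL_big : ∀ l : ℕ, 16 ≤ l → 16 ≤ invL l := by
  intro l hl
  unfold invL
  rw [Cfsg.Agent.H25.Fi23.ifB_eq]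
  cases Nat.beq l 31 with
  | true => simp
  | false =>
    rw [cond_false]
    rcases Nat.lt_or_ge (Nat.xor l 1) 16 with h | h
    · exfalso
      have h1 : (l ^^^ 1) ^^^ 1 = l := by simp
      have h2 : (l ^^^ 1) ^^^ 1 < 16 := Nat.xor_lt_two_pow (n := 4) h (by decide)
      omega
    · exact h

theorem letE_big (f : Th.Gen → G) : ∀ l : ℕ, 16 ≤ l → letE f l = 1 := by
  intro l hl
  obtain ⟨n, rfl⟩ : ∃ n, l = n + 16 := ⟨l - 16, by omega⟩
  rfl

theorem letE_invL (f : Th.Gen → G) (l : ℕ) : letE f (invL l) = (letE f l)⁻¹ := by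
  rcases Nat.lt_or_ge l 16 with h | h
  · interval_cases l <;> first | rfl | exact (inv_inv _).symm
  · rw [letE_big f l h, letE_big f _ (invL_big l h), inv_one]

theorem map_evalW (φ : G →* K) (e : ℕ → G) (w : List ℕ) :
    φ (evalW e w) = evalW (fun l => φ (e l)) w := by
  induction w with
  | nil => simp [evalW]
  | cons x w ih => rw [evalW_cons, map_mul, ih, evalW_cons]

theorem map_letE (φ : G →* K) (f : Th.Gen → G) :
    (fun l => φ (letE f l)) = letE fun x => φ (f x) := by
  funext l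
  rcases Nat.lt_or_ge l 16 with h | h
  · interval_cases l <;> simp [letE]
  · rw [letE_big f l h, letE_big _ l h, map_one]

/-- the relators of the presentation are the tabulated words -/
theorem extra_eval (f : Th.Gen → G) :
    Th.extra.map (FreeGroup.lift f) = relWords.map (evalW (letE f)) := by
  simp [Th.extra, relWords, evalW, letE, Th.a, Th.b, Th.c, Th.d, Th.e, Th.s, Th.t, Th.u,
    pow_succ, mul_assoc]

theorem extra_length : Th.extra.length = 39 := by
  simp [Th.extra]

theorem rel_getD (f : Th.Gen → G) {r : ℕ} (hr : r < 39) :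
    evalW (letE f) (relWords.getD r []) =
      FreeGroup.lift f (Th.extra[r]'(by rw [extra_length]; exact hr)) := by
  have h := congrArg (fun l => l[r]?) (extra_eval f)
  simp only [List.getElem?_map, List.getElem?_eq_getElem (show r < Th.extra.length by
    rw [extra_length]; exact hr), Option.map_some] at h
  rw [List.getElem?_eq_getElem (show r < relWords.length from hr), Option.map_some,
    Option.some_inj] at h
  rw [h, List.getD_eq_getElem (hn := (show r < relWords.length from hr))]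

/-- the relators hold in the presented group -/
theorem rel_Th (r : ℕ) : evalW (letE (PresentedGroup.of : Th.Gen → Th)) (relWords.getD r []) = 1 := by
  rcases Nat.lt_or_ge r 39 with hr | hr
  · rw [rel_getD _ hr]
    have e : ∀ x, FreeGroup.lift (PresentedGroup.of : Th.Gen → Th) x = PresentedGroup.mk _ x :=
      fun x => DFunLike.congr_fun
        (FreeGroup.ext_hom (FreeGroup.lift _) (PresentedGroup.mk _) fun y => by simp; rfl) x
    rw [e]
    exact PresentedGroup.one_of_mem (Or.inr (List.getElem_mem _))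
  · rw [List.getD_eq_default _ _ (by simpa [relWords] using hr)]
    rfl

/-- a group over `Th` with central kernel, and lifts of the generators -/
structure Lift (Γ : Type) [Group Γ] where
  σ : Γ →* Th
  central : σ.ker ≤ Subgroup.center Γ
  f : Th.Gen → Γ
  σf : ∀ x, σ (f x) = PresentedGroup.of x

variable {Γ : Type} [Group Γ]

theorem Lift.σ_let (L : Lift Γ) (w : List ℕ) :
    L.σ (evalW (letE L.f) w) = evalW (letE PresentedGroup.of) w := by
  rw [map_evalW, map_letE, funext L.σf]

/-- the central defect of a relator -/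
def Lift.D (L : Lift Γ) (r : ℕ) : Subgroup.center Γ :=
  ⟨evalW (letE L.f) (relWords.getD r []),
    L.central (by rw [MonoidHom.mem_ker, L.σ_let, rel_Th])⟩

theorem exists_lift {σ : Γ →* Th} (hσ : Function.Surjective σ) (hc : σ.ker ≤ Subgroup.center Γ) :
    ∃ L : Lift Γ, L.σ = σ :=
  ⟨⟨σ, hc, fun x => (hσ (PresentedGroup.of x)).choose,
    fun x => (hσ (PresentedGroup.of x)).choose_spec⟩, rfl⟩

/-- change the lifts by central elements of the kernel -/
def Lift.shift (L : Lift Γ) (c : Th.Gen → Subgroup.center Γ)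
    (hc : ∀ x, L.σ (c x : Γ) = 1) : Lift Γ where
  σ := L.σ
  central := L.central
  f x := L.f x * c x
  σf x := by rw [map_mul, hc, mul_one, L.σf]

theorem evalW_shift (e : ℕ → G) (c : ℕ → Subgroup.center G) (w : List ℕ) :
    evalW (fun l => e l * (c l : G)) w = evalW e w * ((w.map c).prod : Subgroup.center G) := by
  induction w with
  | nil => simp [evalW]
  | cons x w ih =>
    rw [evalW_cons, ih, evalW_cons, List.map_cons, List.prod_cons, Subgroup.coe_mul]
    simp only [mul_assoc]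
    rw [← mul_assoc (c x : G), ← center_comm (c x), mul_assoc]

/-- the central shift of a letter -/
def letC {A : Type*} [Group A] (c : Th.Gen → A) : ℕ → A := letE c

theorem shift_let (L : Lift Γ) (c : Th.Gen → Subgroup.center Γ) (hc : ∀ x, L.σ (c x : Γ) = 1) :
    letE (L.shift c hc).f = fun l => letE L.f l * ((letC c l : Subgroup.center Γ) : Γ) := by
  funext l
  rcases Nat.lt_or_ge l 16 with h | h
  · interval_cases l <;>
      simp [letE, letC, Lift.shift, mul_inv_rev, center_comm_inv]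
  · rw [letE_big _ l h, letE_big _ l h, letC, letE_big _ l h]
    simp

theorem Lift.D_shift (L : Lift Γ) (c : Th.Gen → Subgroup.center Γ)
    (hc : ∀ x, L.σ (c x : Γ) = 1) (r : ℕ) :
    (L.shift c hc).D r = L.D r * ((relWords.getD r []).map (letC c)).prod := by
  apply Subtype.ext
  rw [Subgroup.coe_mul]
  simp only [Lift.D]
  rw [shift_let, evalW_shift]

/-- the normalisation of the lifts -/
structure Good (L : Lift Γ) : Prop where
  g10 : L.D 10 = 1
  g19 : L.D 19 = 1
  g26 : L.D 26 = 1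
  g20 : L.D 20 = L.D 34
  g7 : L.D 7 = L.D 1
  g12 : L.D 12 = L.D 3
  g5 : L.D 5 = L.D 2
  g36 : L.D 36 = (L.D 27)⁻¹

theorem Lift.D_ker (L : Lift Γ) (r : ℕ) : L.σ (L.D r : Γ) = 1 := by
  simp only [Lift.D, L.σ_let, rel_Th]

theorem exists_good (L : Lift Γ) : ∃ L' : Lift Γ, L'.σ = L.σ ∧ Good L' := by
  set ε := L.D 19 with hε
  set σ' := L.D 26 with hσ'
  set τ := L.D 34 * (L.D 20)⁻¹ with hτ
  set μ := L.D 36 * L.D 27 * (σ' ^ 3)⁻¹ with hμ
  set δ := L.D 3 * (L.D 12)⁻¹ * (ε ^ 3)⁻¹ with hδ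
  set γ := (L.D 5 * (L.D 2)⁻¹ * ((L.D 10)⁻¹ * δ ^ 4) ^ 3 * (L.D 1 * (L.D 7)⁻¹) ^ 3)⁻¹ with hγ
  set α := (L.D 10)⁻¹ * γ ^ 4 * δ ^ 4 with hα
  set β := L.D 1 * (L.D 7)⁻¹ * (γ ^ 3)⁻¹ with hβ
  let c : Th.Gen → Subgroup.center Γ := fun
    | .a => α | .b => β | .c => γ | .d => δ | .e => ε | .s => σ' | .t => τ | .u => μ
  let M : Subgroup (Subgroup.center Γ) := (L.σ.comp (Subgroup.center Γ).subtype).ker
  have hM : ∀ r, L.D r ∈ M := fun r => L.D_ker r
  have mε : ε ∈ M := hM _
  have mσ : σ' ∈ M := hM _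
  have mτ : τ ∈ M := M.mul_mem (hM _) (M.inv_mem (hM _))
  have mμ : μ ∈ M := M.mul_mem (M.mul_mem (hM _) (hM _)) (M.inv_mem (M.pow_mem mσ _))
  have mδ : δ ∈ M := M.mul_mem (M.mul_mem (hM _) (M.inv_mem (hM _))) (M.inv_mem (M.pow_mem mε _))
  have mγ : γ ∈ M := M.inv_mem (M.mul_mem (M.mul_mem (M.mul_mem (hM _) (M.inv_mem (hM _)))
    (M.pow_mem (M.mul_mem (M.inv_mem (hM _)) (M.pow_mem mδ _)) _))
    (M.pow_mem (M.mul_mem (hM _) (M.inv_mem (hM _))) _))
  have mα : α ∈ M := M.mul_mem (M.mul_mem (M.inv_mem (hM _)) (M.pow_mem mγ _)) (M.pow_mem mδ _)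
  have mβ : β ∈ M := M.mul_mem (M.mul_mem (hM _) (M.inv_mem (hM _))) (M.inv_mem (M.pow_mem mγ _))
  have hc : ∀ x, L.σ (c x : Γ) = 1 := by
    intro x; cases x
    exacts [mα, mβ, mγ, mδ, mε, mσ, mτ, mμ]
  refine ⟨L.shift c hc, rfl, ?_⟩
  constructor <;>
    (apply Additive.ofMul.injective
     simp only [Lift.D_shift]
     simp [relWords, letC, letE, c, hα, hβ, hγ, hδ, hμ, hτ, hε, hσ']
     try module)

end Cfsg.Agent.H83.ThMult
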