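import Cfsg.Agent.H83.ThMult.Centre
import Cfsg.Agent.H83.ThMult.Lifts
import Cfsg.Agent.H40.Th.Table

/-!
In a lift of the presented Thompson group the subgroup `<a, b, c, d, e, s, t>` maps injectively, as
soon as its image has order at least 634023936 and the first 27 relators hold.
-/

set_option autoImplicit false
set_option maxRecDepth 100000

namespace Cfsg.Agent.H83.ThMult

open Cfsg.Spor
open Cfsg.Agent.H45 (evalW linv)

variable {Γ : Type} [Group Γ]

/-- the lifts in the numbering of `H25` -/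
def eH (f : Th.Gen → Γ) (l : ℕ) : Γ :=
  (H25.Th.lsign[l]?).elim 1 fun x => cond x.2 (f x.1) (f x.1)⁻¹

theorem sq_of_rel {L : Lift Γ} (h : ∀ r, r < 27 → L.D r = 1) {x : Th.Gen} {k : ℕ} (hk : k < 27)
    (he : Th.extra.getD k 1 = FreeGroup.of x ^ 2) : (L.f x)⁻¹ = L.f x := by
  have h1 : FreeGroup.lift L.f (Th.extra.getD k 1) = 1 := by
    rw [List.getD_eq_getElem _ _ (show k < Th.extra.length by rw [extra_length]; omega),
      ← rel_getD L.f (by omega)]
    exact congrArg Subtype.val (h k hk)
  rw [he, map_pow, FreeGroup.lift_apply_of, pow_two] at h1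
  exact inv_eq_of_mul_eq_one_left h1

theorem take_rels : H25.Th.relH = H25.Th.rels.take 27 := by decide +kernel

theorem eH_letters {L : Lift Γ} (h : ∀ r, r < 27 → L.D r = 1) :
    (∀ l, l < 9 → eH L.f (linv H25.Th.ivH l) = (eH L.f l)⁻¹) ∧
      ∀ w ∈ H25.Th.relH, evalW (eH L.f) w = 1 := by
  have ia := sq_of_rel h (x := .a) (k := 0) (by omega) rfl
  have ib := sq_of_rel h (x := .b) (k := 1) (by omega) rfl
  have ic := sq_of_rel h (x := .c) (k := 2) (by omega) rfl
  have id' := sq_of_rel h (x := .d) (k := 3) (by omega) rfl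
  have ie := sq_of_rel h (x := .e) (k := 4) (by omega) rfl
  have code : ∀ x : Th.Gen × Bool,
      eH L.f (H25.Th.code x) = cond x.2 (L.f x.1) (L.f x.1)⁻¹ := by
    rintro ⟨g, b⟩
    cases g <;> cases b <;> simp [eH, H25.Th.code, H25.Th.lsign, ia, ib, ic, id', ie]
  refine ⟨fun l hl => ?_, fun w hw => ?_⟩
  · interval_cases l <;>
      simp [eH, linv, H25.Th.ivH, H25.Th.lsign, ia, ib, ic, id', ie]
  · rw [take_rels, H25.Th.rels_eq, ← List.map_take] at hw
    obtain ⟨r, hr, rfl⟩ := List.mem_map.1 hw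
    obtain ⟨i, hi, rfl⟩ := List.getElem_of_mem hr
    have hi' : i < 27 := lt_of_lt_of_le hi (by simp)
    have h1 : FreeGroup.lift L.f (Th.extra[i]'(by rw [extra_length]; omega)) = 1 := by
      rw [← rel_getD L.f (by omega)]
      exact congrArg Subtype.val (h i hi')
    rw [← FreeGroup.mk_toWord (x := Th.extra[i]'(by rw [extra_length]; omega)),
      FreeGroup.lift_mk] at h1
    rw [List.getElem_take, ← h1, evalW, List.map_map]
    exact congrArg List.prod (List.map_congr_left fun x _ => code x)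

theorem σ_eH (L : Lift Γ) (l : ℕ) : L.σ (eH L.f l) = H25.Th.gv l := by
  unfold eH H25.Th.gv
  cases H25.Th.lsign[l]? with
  | none => simp
  | some x =>
    obtain ⟨g, b⟩ := x
    cases b <;> simp [H40.Th.gen, L.σf]

/-- the subgroup generated by the lifts other than that of `u` maps injectively -/
theorem inj7 (hHH : 634023936 ≤ Nat.card H40.Th.HH) (L : Lift Γ)
    (h : ∀ r, r < 27 → L.D r = 1) {x : Γ}
    (hx : x ∈ Subgroup.closure (L.f '' {y | y ≠ .u})) (hσ : L.σ x = 1) : x = 1 := by
  obtain ⟨hinv, hrel⟩ := eH_letters h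
  have hev : ∀ w : List ℕ, L.σ (evalW (eH L.f) w) = evalW H25.Th.gv w := fun w => by
    rw [map_evalW]
    exact congrArg (fun e => evalW e w) (funext (σ_eH L))
  have hz : evalW (eH L.f) H25.Th.r0 = 1 := by
    refine r0_one hinv hrel (L.central ?_)
    rw [MonoidHom.mem_ker, hev]
    exact H40.Th.hLetters.2 _ (List.mem_append_right _ (List.mem_singleton_self _))
  have hH : H25.Th.HLetters (eH L.f) := ⟨hinv, fun w hw => by
    rcases List.mem_append.1 hw with hw | hw
    · exact hrel w hw
    · rw [List.mem_singleton.1 hw]; exact hz⟩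
  obtain ⟨-, hfin, hcard⟩ := H25.Th.H_card hH
  set U := H25.Th.upTo (eH L.f) 9 with hU
  let φ : U →* Th := L.σ.comp U.subtype
  have hle : H40.Th.HH ≤ φ.range := by
    refine (Subgroup.closure_le _).2 ?_
    intro y hy
    simp only [Set.mem_insert_iff, Set.mem_singleton_iff] at hy
    have m : ∀ l, l < 9 → H25.Th.gv l ∈ φ.range := fun l hl =>
      ⟨⟨_, H25.Th.mem_upTo hl⟩, σ_eH L l⟩
    rcases hy with rfl | rfl | rfl | rfl | rfl | rfl | rfl
    exacts [m 6 (by decide), m 8 (by decide), m 7 (by decide), m 0 (by decide), m 1 (by decide),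
      m 2 (by decide), m 4 (by decide)]
  have hfr : Finite φ.range := Finite.of_surjective _ φ.rangeRestrict_surjective
  have h1 : Nat.card U ≤ Nat.card φ.range :=
    hcard.trans (hHH.trans (Subgroup.card_le_of_le hle))
  have hb : Function.Bijective φ.rangeRestrict :=
    (Nat.bijective_iff_surjective_and_card _).2 ⟨φ.rangeRestrict_surjective,
      le_antisymm h1 (Nat.card_le_card_of_surjective _ φ.rangeRestrict_surjective)⟩
  have hx' : x ∈ U := by
    refine (Subgroup.closure_le _).2 ?_ hx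
    rintro _ ⟨g, hg, rfl⟩
    obtain ⟨l, hl, he⟩ : ∃ l, l < 9 ∧ eH L.f l = L.f g := by
      cases g
      · exact ⟨6, by decide, rfl⟩
      · exact ⟨8, by decide, rfl⟩
      · exact ⟨7, by decide, rfl⟩
      · exact ⟨0, by decide, rfl⟩
      · exact ⟨1, by decide, rfl⟩
      · exact ⟨2, by decide, rfl⟩
      · exact ⟨4, by decide, rfl⟩
      · exact absurd rfl hg
    rw [← he]
    exact H25.Th.mem_upTo hl
  have h2 : φ.rangeRestrict ⟨x, hx'⟩ = φ.rangeRestrict 1 := by
    apply Subtype.ext
    show L.σ x = L.σ (1 : U).1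
    rw [hσ, OneMemClass.coe_one, map_one]
  exact congrArg Subtype.val (hb.1 h2)

end Cfsg.Agent.H83.ThMult
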