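import Cfsg.Agent.H83.ThMult.Stages
import Cfsg.Agent.H83.ThMult.Inj
import Cfsg.Agent.H74.SchurPerfect

/-!
The presented Thompson group has trivial multiplier, given that it is finite and that its subgroup
`<a, b, c, d, e, s, t>` has order at least 634023936.
-/

set_option autoImplicit false

namespace Cfsg.Agent.H83.ThMult

open Cfsg.Spor
open Cfsg.Agent.H45 (evalW)
open scoped IsMulCommutative

variable {Γ : Type} [Group Γ]

theorem lift_rel (L : Lift Γ) {r : ℕ} (hr : r < 39) :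
    FreeGroup.lift L.f (Th.extra[r]'(by rw [extra_length]; exact hr)) = (L.D r : Γ) :=
  (rel_getD L.f hr).symm

theorem σ_lift (L : Lift Γ) (x : FreeGroup Th.Gen) :
    L.σ (FreeGroup.lift L.f x) = PresentedGroup.mk _ x :=
  DFunLike.congr_fun (FreeGroup.ext_hom (L.σ.comp (FreeGroup.lift L.f)) (PresentedGroup.mk _)
    fun y => by rw [MonoidHom.comp_apply, FreeGroup.lift_apply_of, L.σf]; rfl) x

theorem all_one (hHH : 634023936 ≤ Nat.card H40.Th.HH) (L : Lift Γ) (g : Good L) : ∀ r, r < 39 → L.D r = 1 := by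
  have k15 := A0_15 g
  have k14 := A1_14 g k15
  have k16 := A2_16 g k14 k15
  have k17 := A3_17 g k14 k15 k16
  have k21 := A4_21 g k14 k15 k16 k17
  have k22 := A5_22 g k14 k15 k16 k17 k21
  have k23 := A6_23 g k14 k15 k16 k17 k21 k22
  have k24 := A7_24 g k14 k15 k16 k17 k21 k22 k23
  have k28 := A8_28 g k14 k15 k16 k17 k21 k22 k23 k24
  have k29 := A9_29 g k14 k15 k16 k17 k21 k22 k23 k24 k28
  have k34 := A10_34 g k14 k15 k16 k17 k21 k22 k23 k24 k28 k29
  have k3 := B_3 g k14 k24 k34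
  have k4 := B_4 g k14 k24 k34
  have k18 := B_18 g k14 k24 k34
  have k25 := B_25 g k14 k24 k34
  have k0 := C1_0 g k3 k4
  have k1 := C1_1 g k3 k4
  have k2 := C1_2 g k3 k4
  have k6 := C1_6 g k3 k4
  have k8 := C1_8 g k3 k4
  have k9 := C1_9 g k3 k4
  have k11 := C1_11 g k3 k4
  have k5 : L.D 5 = 1 := g.g5.trans k2
  have k7 : L.D 7 = 1 := g.g7.trans k1
  have k12 : L.D 12 = 1 := g.g12.trans k3
  have k20 : L.D 20 = 1 := g.g20.trans k34
  have ev : ∀ r, L.D r = 1 → evalW (letE L.f) (relWords.getD r []) = 1 := fun r h =>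
    congrArg Subtype.val h
  have k13 : L.D 13 = 1 := by
    obtain ⟨n, hn⟩ := Subgroup.mem_zpowers_iff.1
      (C2_13 g k0 k1 k2 k3 k4 k6 k8 k9 k11)
    have hc2 : L.f .c * L.f .c = 1 := by simpa [evalW, relWords, letE] using ev 2 k2
    have h2 : (L.f .c) ^ (2 : ℤ) = 1 := by rw [zpow_two]; exact hc2
    apply Subtype.ext
    rw [← hn, OneMemClass.coe_one]
    obtain ⟨k, rfl | rfl⟩ : ∃ k, n = 2 * k ∨ n = 2 * k + 1 := ⟨n / 2, by omega⟩
    · rw [zpow_mul, h2, one_zpow]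
    · rw [zpow_add, zpow_mul, h2, one_zpow, zpow_one, one_mul] at hn ⊢
      have hcen : ∀ y, y * L.f .c = L.f .c * y := fun y => by rw [hn]; exact center_comm _ y
      have hb2 : L.f .b * L.f .b = 1 := by simpa [evalW, relWords, letE] using ev 1 k1
      have ha2 : L.f .a * L.f .a = 1 := by simpa [evalW, relWords, letE] using ev 0 k0
      have hd2 : L.f .d * L.f .d = 1 := by simpa [evalW, relWords, letE] using ev 3 k3
      have hbc : (L.f .b * L.f .c) ^ 3 = 1 := by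
        simpa [evalW, relWords, letE, pow_succ, mul_assoc] using ev 7 k7
      have hab : (L.f .a * L.f .b) ^ 3 = 1 := by
        simpa [evalW, relWords, letE, pow_succ, mul_assoc] using ev 5 k5
      have hacd : L.f .a * (((L.f .c * L.f .d) ^ 4))⁻¹ = 1 := by
        simpa [evalW, relWords, letE, pow_succ, mul_assoc] using ev 10 g.g10
      have cube : ∀ {x y : Γ}, x * x = 1 → y * y = 1 → (∀ w, w * y = y * w) →
          (x * y) ^ 3 = 1 → x = y := by
        intro x y hx hy hc h3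
        rw [Commute.mul_pow (hc x), pow_succ x 2, pow_two, hx, one_mul, pow_succ y 2, pow_two, hy,
          one_mul] at h3
        exact (eq_inv_of_mul_eq_one_left h3).trans (inv_eq_of_mul_eq_one_right hy)
      have hb : L.f .b = L.f .c := cube hb2 hc2 hcen hbc
      rw [hb] at hab
      have ha : L.f .a = L.f .c := cube ha2 hc2 hcen hab
      rw [ha, Commute.mul_pow (hcen (L.f .d)).symm, show (4 : ℕ) = 2 * 2 from rfl, pow_mul,
        pow_mul, pow_two (L.f .c), pow_two (L.f .d), hc2, hd2, one_pow, one_mul, inv_one,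
        mul_one] at hacd
      exact hacd
  have h27 : ∀ r, r < 27 → L.D r = 1 := by
    intro r hr
    interval_cases r
    exacts [k0, k1, k2, k3, k4, k5, k6, k7, k8, k9, g.g10, k11, k12, k13, k14, k15, k16, k17,
      k18, g.g19, k20, k21, k22, k23, k24, k25, g.g26]
  have use7 : ∀ {r}, (L.D r : Γ) ∈ L.H7 → L.D r = 1 := fun hm =>
    Subtype.ext (inj7 hHH L h27 hm (L.D_ker _))
  have k30 := use7 (D30_30 g k0 k1 k2 k3 k4 k6 k8 k9 k11 k13 k28 k29)
  have k31 := use7 (D31_31 g k0 k1 k2 k3 k4 k6 k8 k9 k11 k13 k28 k29 k30)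
  have k35 := use7 (P35_35 g k0 k2 k3 k4 k6 k11 k14 k15 k17 k18 k21 k23 k24 k25 k28 k29 k30 k31
    k34)
  have k27 := use7 (P38_27 g k0 k2 k3 k4 k6 k11 k14 k15 k17 k18 k21 k23 k24 k25 k28 k29 k30 k31
    k34 k35)
  have k37 := use7 (P38_37 g k0 k2 k3 k4 k6 k11 k14 k15 k17 k18 k21 k23 k24 k25 k28 k29 k30 k31
    k34 k35)
  have k38 := use7 (P38_38 g k0 k2 k3 k4 k6 k11 k14 k15 k17 k18 k21 k23 k24 k25 k28 k29 k30 k31
    k34 k35)
  have k32 := use7 (R32_32 g k0 k1 k2 k3 k4 k6 k8 k9 k11 k13 k14 k15 k16 k17 k18 k21 k22 k23 k24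
    k25 k27 k28 k29 k30 k31 k34 k35 k37 k38)
  have k33 := use7 (R33_33 g k0 k1 k2 k3 k4 k6 k8 k9 k11 k13 k27 k28 k29 k30 k31 k32)
  have k36 : L.D 36 = 1 := by rw [g.g36, k27, inv_one]
  intro r hr
  rcases Nat.lt_or_ge r 27 with h | h
  · exact h27 r h
  · interval_cases r
    exacts [k27, k28, k29, k30, k31, k32, k33, k34, k35, k36, k37, k38]

theorem ker_trivial (hHH : 634023936 ≤ Nat.card H40.Th.HH) {σ : Γ →* Th} (hσ : Cfsg.IsStemExtension σ) (z : Γ)
    (hz : σ z = 1) : z = 1 := by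
  obtain ⟨L₀, rfl⟩ := exists_lift hσ.1 hσ.2.1
  obtain ⟨L, hL, g⟩ := exists_good L₀
  rw [← hL] at hσ hz
  have hall := all_one hHH L g
  have hrel : ∀ r ∈ coxRelators Th.edges ∪ {r | r ∈ Th.extra}, FreeGroup.lift L.f r = 1 := by
    rintro r (⟨x, hx, -⟩ | hr)
    · exact absurd hx (by simp [coxNodes, Th.edges])
    · obtain ⟨i, hi, rfl⟩ := List.getElem_of_mem hr
      rw [extra_length] at hi
      rw [lift_rel L hi, hall i hi]
      rfl
  set τ : Th →* Γ := PresentedGroup.toGroup hrel with hτ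
  have hστ : ∀ g, L.σ (τ g) = g := by
    have : L.σ.comp τ = MonoidHom.id Th := PresentedGroup.ext fun x => by
      rw [MonoidHom.comp_apply, hτ, PresentedGroup.toGroup.of, L.σf]; rfl
    exact fun g => DFunLike.congr_fun this g
  have hdec : ∀ y : Γ, ∃ c ∈ Subgroup.center Γ, τ (L.σ y) * c = y := fun y =>
    ⟨(τ (L.σ y))⁻¹ * y, hσ.2.1 (by
      rw [MonoidHom.mem_ker, map_mul, map_inv, hστ, inv_mul_cancel]), mul_inv_cancel_left _ _⟩
  have hcomm : commutator Γ ≤ τ.range := by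
    rw [commutator_def, Subgroup.commutator_le]
    intro a _ b _
    obtain ⟨c, hc, ha⟩ := hdec a
    obtain ⟨c', hc', hb⟩ := hdec b
    rw [← ha, ← hb, commutatorElement_def, H74.Schur.commutatorElement_mul_central hc hc',
      ← commutatorElement_def, ← map_commutatorElement]
    exact ⟨_, rfl⟩
  obtain ⟨w, rfl⟩ := hcomm (hσ.2.2 (MonoidHom.mem_ker.2 hz))
  rw [hστ] at hz
  rw [hz, map_one]

theorem hasMultiplierOne (hfin : Finite Th) (hHH : 634023936 ≤ Nat.card H40.Th.HH) :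
    Cfsg.HasCyclicSchurMultiplier Th 1 := by
  refine ⟨⟨Th, inferInstance, hfin, MonoidHom.id Th, ⟨Function.surjective_id, ?_, ?_⟩, ?_⟩, ?_⟩
  · rw [MonoidHom.ker_id]; exact bot_le
  · rw [MonoidHom.ker_id]; exact bot_le
  · rw [MonoidHom.ker_id]; exact ⟨MulEquiv.ofUnique⟩
  · intro G _ _ σ hσ
    exact ⟨1, fun z => ⟨1, Subtype.ext (ker_trivial hHH hσ z z.2).symm⟩⟩

end Cfsg.Agent.H83.ThMult
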