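import Cfsg.Agent.H25.Th.BoundH

/-!
The further relator of `A = <a, c, d, e, s, t>` follows from the relators of `H` where it is central:
`c` is conjugate to `a = (c d) ^ 4` in `H`, and the conjugation, computed up to the relator, turns
this into an equation of `A` which determines it.
-/

set_option autoImplicit false
set_option maxRecDepth 100000

namespace Cfsg.Agent.H83.ThMult

open Cfsg.Agent.H45
open Cfsg.Agent.H25.Th (HLetters relH relA r0 ivA ivH sameBase sameBase_sound cols819 chainH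
  eq_of_walksH eq_of_walks1024 cmp1024)

variable {G : Type} [Group G] {e : ℕ → G}

/-- conjugating word -/
def gCj : List ℕ := [8, 7, 0, 1, 6, 8]

/-- its inverse -/
def gCjInv : List ℕ := [8, 6, 1, 0, 7, 8]

/-- a word of `A` with the image of the conjugate of `c d c` -/
def bCj : List ℕ :=
  [0, 3, 1, 0, 2, 1, 7, 0, 1, 3, 7, 0, 1, 3, 7, 0, 1, 7, 0, 1, 3, 3, 7]

theorem cj_e : sameBase cols819 chainH (gCj ++ [0] ++ gCjInv) [1] = true := by decide +kernel

theorem cj_cdc : sameBase cols819 chainH (gCj ++ [7, 0, 7] ++ gCjInv) bCj = true := by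
  decide +kernel

theorem cj_A : (cmp1024 (bCj ++ [1] ++ bCj ++ [1]) ([7] ++ r0) && cmp1024 (r0 ++ r0) [] &&
    (relA.all fun w => decide (w ∈ relH))) = true := by
  decide +kernel

theorem eq_of_mul_sq {x y p q : G} (hp : ∀ g, g * p = p * g) (hq : ∀ g, g * q = q * g)
    (hp2 : p * p = 1) (hq2 : q * q = 1) :
    (x * p) * (y * q) * ((x * p) * (y * q)) = x * y * (x * y) := by
  have h1 : (x * p) * (y * q) = x * y * (p * q) := by
    rw [mul_assoc x p, ← mul_assoc p y q, ← hp y, mul_assoc y p q, ← mul_assoc x y]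
  have h2 : ∀ g, g * (p * q) = p * q * g := fun g => by
    rw [← mul_assoc, hp g, mul_assoc, hq g, ← mul_assoc]
  have h3 : p * q * (p * q) = 1 := by
    rw [mul_assoc, ← mul_assoc q p q, hp q, mul_assoc p q q, hq2, mul_one, hp2]
  rw [h1, mul_assoc (x * y) (p * q), ← mul_assoc (p * q) (x * y), ← h2 (x * y),
    mul_assoc (x * y) (p * q) (p * q), h3, mul_one]

/-- a central value of the further relator is trivial -/
theorem r0_one (hinv : ∀ l, l < 9 → e (linv ivH l) = (e l)⁻¹)
    (hR : ∀ w ∈ relH, evalW e w = 1) (hz : evalW e r0 ∈ Subgroup.center G) :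
    evalW e r0 = 1 := by
  have hA : ∀ w ∈ relA, evalW e w = 1 := by
    have h := cj_A
    simp only [Bool.and_eq_true, List.all_eq_true, decide_eq_true_eq] at h
    exact fun w hw => hR w (h.2 w hw)
  have hiA : ∀ l, l < 8 → e (linv ivA l) = (e l)⁻¹ := by
    intro l hl
    rw [← hinv l (by omega)]
    interval_cases l <;> rfl
  have h1024 : ∀ {u v : List ℕ}, cmp1024 u v = true → (∀ l ∈ u, l < 8) → (∀ l ∈ v, l < 8) →
      evalW e u = evalW e v := fun h hu hv =>
    eq_of_walks1024 hiA hA hu hv (sameBase_sound h)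
  have hc := cj_A
  simp only [Bool.and_eq_true] at hc
  set z := evalW e r0 with hzdef
  have hz2 : z * z = 1 := by
    have := h1024 hc.1.2 (by decide) (by decide)
    rwa [evalW_append, evalW_nil] at this
  have hcom : ∀ g, g * z = z * g := Subgroup.mem_center_iff.1 hz
  have hnorm : (Subgroup.zpowers z).Normal := ⟨fun n hn g => by
    obtain ⟨k, rfl⟩ := Subgroup.mem_zpowers_iff.1 hn
    rw [((show Commute g z from hcom g).zpow_right k).eq, mul_inv_cancel_right]
    exact hn⟩
  let π := QuotientGroup.mk' (Subgroup.zpowers z)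
  have hπ : ∀ w : List ℕ, π (evalW e w) = evalW (fun l => π (e l)) w := by
    intro w
    induction w with
    | nil => simp [evalW]
    | cons x w ih => rw [evalW_cons, map_mul, ih, evalW_cons]
  have hH : HLetters (fun l => π (e l)) := by
    refine ⟨fun l hl => by simp only [hinv l hl, map_inv], fun w hw => ?_⟩
    rw [← hπ]
    rcases List.mem_append.1 hw with hw | hw
    · rw [hR w hw, map_one]
    · rw [List.mem_singleton.1 hw]
      exact (QuotientGroup.eq_one_iff _).2 (Subgroup.mem_zpowers z)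
  have hmod : ∀ {u v : List ℕ}, sameBase cols819 chainH u v = true → (∀ l ∈ u, l < 9) →
      (∀ l ∈ v, l < 9) → ∃ k : G, evalW e u = evalW e v * k ∧ k * k = 1 ∧ ∀ g, g * k = k * g := by
    intro u v h hu hv
    have h1 := eq_of_walksH hH hu hv (sameBase_sound h)
    rw [← hπ, ← hπ] at h1
    obtain ⟨k, hk⟩ := Subgroup.mem_zpowers_iff.1 (QuotientGroup.eq.1 h1.symm)
    refine ⟨z ^ k, by rw [hk, mul_inv_cancel_left], ?_, fun g => ?_⟩
    · rw [← (show Commute z z from rfl).mul_zpow, hz2, one_zpow]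
    · exact ((show Commute g z from hcom g).zpow_right k).eq
  obtain ⟨q, hq, hq2, hqc⟩ := hmod cj_e (by decide) (by decide)
  obtain ⟨p, hp, hp2, hpc⟩ := hmod cj_cdc (by decide) (by decide)
  have hee := h1024 hc.1.1 (by decide) (by decide)
  have rl : ∀ w, decide (w ∈ relH) = true → evalW e w = 1 := fun w hw =>
    hR w (of_decide_eq_true hw)
  have ha2 : e 6 * e 6 = 1 := by simpa [evalW] using rl [6, 6] (by decide +kernel)
  have hb2 : e 8 * e 8 = 1 := by simpa [evalW] using rl [8, 8] (by decide +kernel)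
  have hc2 : e 7 * e 7 = 1 := by simpa [evalW] using rl [7, 7] (by decide +kernel)
  have hd2 : e 0 * e 0 = 1 := by simpa [evalW] using rl [0, 0] (by decide +kernel)
  have he2 : e 1 * e 1 = 1 := by simpa [evalW] using rl [1, 1] (by decide +kernel)
  have hab : e 6 * e 8 * e 6 * e 8 * e 6 * e 8 = 1 := by
    simpa [evalW, mul_assoc] using rl [6, 8, 6, 8, 6, 8] (by decide +kernel)
  have hbc : e 8 * e 7 * e 8 * e 7 * e 8 * e 7 = 1 := by
    simpa [evalW, mul_assoc] using rl [8, 7, 8, 7, 8, 7] (by decide +kernel)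
  have hbd : e 8 * e 0 * e 8 * e 0 = 1 := by
    simpa [evalW, mul_assoc] using rl [8, 0, 8, 0] (by decide +kernel)
  have hbe : e 8 * e 1 * e 8 * e 1 = 1 := by
    simpa [evalW, mul_assoc] using rl [8, 1, 8, 1] (by decide +kernel)
  have hcd : e 6 * e 0 * e 7 * e 0 * e 7 * e 0 * e 7 * e 0 * e 7 = 1 := by
    simpa [evalW, mul_assoc] using rl [6, 0, 7, 0, 7, 0, 7, 0, 7] (by decide +kernel)
  have inv_of : ∀ {x : G}, x * x = 1 → x⁻¹ = x := fun h => inv_eq_of_mul_eq_one_left h
  have ia := inv_of ha2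
  have ib := inv_of hb2
  have ic := inv_of hc2
  have id' := inv_of hd2
  have ie := inv_of he2
  have aba : e 6 * e 8 * e 6 * e 8 * e 6 = e 8 := by
    rw [mul_eq_one_iff_eq_inv.1 hab, ib]
  have dbd : e 0 * e 8 * e 0 = e 8 := by
    calc e 0 * e 8 * e 0 = (e 8)⁻¹ * (e 8 * e 0 * e 8 * e 0) := by
          rw [mul_assoc (e 8 * e 0), mul_assoc (e 8), inv_mul_cancel_left, ← mul_assoc]
      _ = e 8 := by rw [hbd, mul_one, ib]
  have ebe : e 1 * e 8 * e 1 = e 8 := by
    calc e 1 * e 8 * e 1 = (e 8)⁻¹ * (e 8 * e 1 * e 8 * e 1) := by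
          rw [mul_assoc (e 8 * e 1), mul_assoc (e 8), inv_mul_cancel_left, ← mul_assoc]
      _ = e 8 := by rw [hbe, mul_one, ib]
  have bcb : e 8 * e 7 * e 8 * e 7 * e 8 = e 7 := by
    rw [mul_eq_one_iff_eq_inv.1 hbc, ic]
  set g := evalW e gCj with hgdef
  set g' := evalW e gCjInv with hgdef'
  have hgg : g' * g = 1 := by
    simp only [hgdef, hgdef', gCj, gCjInv, evalW, List.map_cons, List.map_nil, List.prod_cons,
      List.prod_nil, mul_one, mul_assoc]
    rw [← mul_assoc (e 8) (e 8), hb2, one_mul, ← mul_assoc (e 7) (e 7), hc2, one_mul,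
      ← mul_assoc (e 0) (e 0), hd2, one_mul, ← mul_assoc (e 1) (e 1), he2, one_mul,
      ← mul_assoc (e 6) (e 6), ha2, one_mul, hb2]
  have hgc : g * e 6 * g' = e 7 := by
    calc g * e 6 * g'
        = e 8 * e 7 * (e 0 * (e 1 * (e 6 * e 8 * e 6 * e 8 * e 6) * e 1) * e 0) * (e 7 * e 8) := by
          simp [hgdef, hgdef', gCj, gCjInv, evalW, mul_assoc]
      _ = e 7 := by rw [aba, ebe, dbd, ← mul_assoc, bcb]
  have hasq : e 6 = e 7 * e 0 * e 7 * e 0 * (e 7 * e 0 * e 7 * e 0) := by
    have h := mul_eq_one_iff_eq_inv.1 (show e 6 * (e 0 * e 7 * e 0 * e 7 * e 0 * e 7 * e 0 * e 7) = 1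
      by simpa only [mul_assoc] using hcd)
    rw [h]
    simp only [mul_inv_rev, ic, id', mul_assoc]
  have hq' : g * e 0 * g' = e 1 * q := by
    simpa [hgdef, hgdef', evalW_append, evalW, mul_assoc] using hq
  have hp' : g * (e 7 * e 0 * e 7) * g' = evalW e bCj * p := by
    simpa [hgdef, hgdef', evalW_append, evalW, mul_assoc] using hp
  have hd : ∀ x y : G, g * x * g' * (g * y * g') = g * (x * y) * g' := fun x y => by
    rw [mul_assoc (g * x), ← mul_assoc g' (g * y), ← mul_assoc g' g, hgg, one_mul, ← mul_assoc,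
      mul_assoc g x y]
  have key : e 7 = evalW e bCj * e 1 * (evalW e bCj * e 1) := by
    rw [← eq_of_mul_sq hpc hqc hp2 hq2, ← hp', ← hq', hd, hd]
    refine hgc.symm.trans ?_
    rw [← hasq]
  have h7 : e 7 * 1 = e 7 * z := by
    rw [mul_one]
    calc e 7 = evalW e bCj * e 1 * (evalW e bCj * e 1) := key
      _ = e 7 * z := by
          simpa [hzdef, evalW_append, evalW, mul_assoc] using hee
  exact (mul_left_cancel h7).symm

end Cfsg.Agent.H83.ThMult
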