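import Cfsg.Agent.H83.ThMult.Words

/-!
Lists of labelled coset facts, each justified by a path through earlier facts and a relator with
central value; closed paths give relations between the central values modulo the subgroup.
-/

set_option autoImplicit false

namespace Cfsg.Agent.H83.ThMult

open Cfsg.Agent.H25.Fi23 (Tr andB andB_eq ifB ifB_eq)
open Cfsg.Agent.H45 (force force_eq evalW evalW_cons evalW_nil evalW_append)
open scoped IsMulCommutative

/-- fixed data of a fact list: facts, relators, their labels, the relators in use, number of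
defining facts, number of loop facts, loop letters, number of unknowns -/
structure LCert where
  F : Tr
  W : List (List ℕ)
  RP : List (List ℕ)
  RN : List (List ℕ)
  keep : List ℕ
  nd : ℕ
  nl : ℕ
  ms : List ℕ
  K : ℕ

/-- start of a fact -/
def fP (f : ℕ) : ℕ := Nat.land f 1048575

/-- end of a fact -/
def fQ (f : ℕ) : ℕ := Nat.land (Nat.shiftRight f 20) 1048575

/-- letter of a fact, `31` for none -/
def fL (f : ℕ) : ℕ := Nat.land (Nat.shiftRight f 40) 31

/-- unpack exponents of 32 bits each -/
noncomputable def decE : ℕ → ℕ → List ℕ :=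
  Nat.rec (fun _ => [])
    (fun _ ih c => Nat.land c 65535 :: ih (Nat.shiftRight c 32))

/-- positive label of a fact -/
noncomputable def fA (C : LCert) (f : ℕ) : List ℕ := decE C.K (Nat.shiftRight f 45)

/-- negative label of a fact -/
noncomputable def fB (C : LCert) (f : ℕ) : List ℕ := decE C.K (Nat.shiftRight f 61)

/-- a fact of the list -/
noncomputable def factC (t : Tr) (k : ℕ) : ℕ := force k fun k' => t.get k'

/-- continuations of walks -/
abbrev Cont := ℕ → List ℕ → List ℕ → List ℕ → Bool

/-- follow one signed reference below `bound`, adding up labels -/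
noncomputable def stepF (C : LCert) (bound v cur : ℕ) (s P N : List ℕ) (k : Cont) : Bool :=
  force (Nat.shiftRight v 1) fun i => andB (Nat.blt i bound) (force (factC C.F i) fun f =>
    force (fL f) fun l =>
      ifB (Nat.beq (Nat.land v 1) 0)
        (andB (Nat.beq (fP f) cur) (force (fQ f) fun c =>
          pushO l s fun s' => k c s' (addL P (fA C f)) (addL N (fB C f))))
        (andB (Nat.beq (fQ f) cur) (force (fP f) fun c => force (invL l) fun l' =>
          pushO l' s fun s' => k c s' (addL P (fB C f)) (addL N (fA C f)))))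

/-- follow packed references (21 bits each, shifted by one) -/
noncomputable def walkF (C : LCert) (bound : ℕ) :
    ℕ → ℕ → ℕ → List ℕ → List ℕ → List ℕ → Cont → Bool :=
  Nat.rec (fun _ cur s P N k => k cur s P N)
    (fun _ ih refs cur s P N k => ifB (Nat.beq refs 0) (k cur s P N)
      (force (Nat.sub (Nat.land refs 2097151) 1) fun v =>
        force (Nat.shiftRight refs 21) fun refs' =>
          stepF C bound v cur s P N fun c s' P' N' => ih refs' c s' P' N' k))

/-- all entries vanish -/
noncomputable def isZeroL (a : List ℕ) : Bool :=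
  List.rec true (fun x _ ih => andB (Nat.beq x 0) ih) a

/-- a defining fact -/
noncomputable def defOK (C : LCert) (k f : ℕ) : Bool :=
  andB (Nat.beq (fQ f) (Nat.succ k)) (andB (Nat.blt (fP f) (Nat.succ k))
    (andB (isZeroL (fA C f)) (isZeroL (fB C f))))

/-- a loop fact at the first node -/
noncomputable def loopOK (C : LCert) (f : ℕ) : Bool :=
  andB (Nat.beq (fP f) 0) (andB (Nat.beq (fQ f) 0) (andB (C.ms.any (Nat.beq (fL f)))
    (andB (isZeroL (fA C f)) (isZeroL (fB C f)))))

/-- a derived fact with code (relator plus one or zero, rotation, references) -/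
noncomputable def derOK (C : LCert) (k f c : ℕ) : Bool :=
  force (Nat.land c 63) fun r => force (Nat.land (Nat.shiftRight c 6) 127) fun i =>
    force (Nat.shiftRight c 13) fun refs => force (fP f) fun p =>
      walkF C k 64 refs p [] [] [] fun cur s P N => andB (Nat.beq cur (fQ f))
        (force (fL f) fun l => force (invL l) fun l' => pushO l' s fun s1 =>
          ifB (Nat.beq r 0)
            (andB (isNilS s1) (eqL (addL P (fB C f)) (addL (fA C f) N)))
            (force (Nat.sub r 1) fun j => andB (C.keep.any (Nat.beq j))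
              (pushAllS (rotW i (C.W.getD j [])) s1 fun s2 => andB (isNilS s2)
                (eqL (addL (addL P (C.RP.getD j [])) (fB C f))
                  (addL (fA C f) (addL N (C.RN.getD j [])))))))

/-- the check of one fact -/
noncomputable def factOK (C : LCert) (k c : ℕ) : Bool :=
  force (factC C.F k) fun f =>
    ifB (Nat.blt k C.nd) (defOK C k f)
      (ifB (Nat.blt k (Nat.add C.nd C.nl)) (loopOK C f) (derOK C k f c))

/-- check consecutive facts -/
noncomputable def factsFrom (C : LCert) (cs : List ℕ) : ℕ → Bool :=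
  List.rec (fun _ => true)
    (fun c _ ih k => andB (factOK C k c) (force (Nat.succ k) fun k' => ih k')) cs

/-- what a checked range gives -/
def FRange (C : LCert) (a b : ℕ) : Prop := ∀ k, a ≤ k → k < b → ∃ c, factOK C k c = true

theorem factsFrom_sound {C : LCert} : ∀ {cs : List ℕ} {a b : ℕ}, factsFrom C cs a = true →
    a + cs.length = b → FRange C a b := by
  intro cs
  induction cs with
  | nil => intro a b _ hb k h1 h2; simp at hb; omega
  | cons c cs ih =>
    intro a b h hb k h1 h2
    have hd : factsFrom C (c :: cs) a =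
        andB (factOK C a c) (force (Nat.succ a) fun k' => factsFrom C cs k') := rfl
    simp only [hd, andB_eq, force_eq, Bool.and_eq_true] at h
    rcases Nat.lt_or_ge a k with h3 | h3
    · exact ih h.2 (by simp at hb; omega) k h3 h2
    · obtain rfl : k = a := by omega
      exact ⟨c, h.1⟩

theorem FRange.append {C : LCert} {a b c : ℕ} (h1 : FRange C a b) (h2 : FRange C b c) :
    FRange C a c := fun k ha hc => (Nat.lt_or_ge k b).elim (h1 k ha) (fun h => h2 k h hc)

variable {G : Type*} [Group G] {C : LCert} {e : ℕ → G} {z : ℕ → Subgroup.center G}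
  {H : Subgroup G}

/-- the hypotheses on letters and relators -/
structure Hyp (C : LCert) (e : ℕ → G) (z : ℕ → Subgroup.center G) : Prop where
  inv : ∀ l, e (invL l) = (e l)⁻¹
  none : e 31 = 1
  rel : ∀ r ∈ C.keep, evalW e (C.W.getD r []) =
    ((zlab z (C.RP.getD r []) (C.RN.getD r []) : Subgroup.center G) : G)

/-- semantics of a fact -/
def FRel (C : LCert) (e : ℕ → G) (z : ℕ → Subgroup.center G) (H : Subgroup G) (w : ℕ → G)
    (k : ℕ) : Prop :=
  w (fP (factC C.F k)) * e (fL (factC C.F k)) * (w (fQ (factC C.F k)))⁻¹ *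
    ((zlab z (fA C (factC C.F k)) (fB C (factC C.F k)) : Subgroup.center G) : G)⁻¹ ∈ H

theorem center_comm (u : Subgroup.center G) (g : G) : g * (u : G) = (u : G) * g :=
  Subgroup.mem_center_iff.1 u.2 g

theorem center_comm_inv (u : Subgroup.center G) (g : G) : g * (u : G)⁻¹ = (u : G)⁻¹ * g :=
  Subgroup.mem_center_iff.1 (inv_mem u.2) g

theorem rel_comp {a x b y c : G} {u v : Subgroup.center G} (h1 : a * x * b⁻¹ * (u : G)⁻¹ ∈ H)
    (h2 : b * y * c⁻¹ * (v : G)⁻¹ ∈ H) : a * (x * y) * c⁻¹ * ((u * v : Subgroup.center G) : G)⁻¹ ∈ H := by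
  have h := H.mul_mem h1 h2
  have e1 : a * x * b⁻¹ * (u : G)⁻¹ * (b * y * c⁻¹ * (v : G)⁻¹)
      = a * x * b⁻¹ * (b * y * c⁻¹ * (v : G)⁻¹ * (u : G)⁻¹) := by
    rw [mul_assoc (a * x * b⁻¹), center_comm_inv u]
  rw [e1] at h
  convert h using 1
  simp only [Subgroup.coe_mul, mul_inv_rev]
  group

theorem stepF_sound (hD : Hyp C e z) {bound : ℕ} {w : ℕ → G}
    (hF : ∀ i, i < bound → FRel C e z H w i) {v cur : ℕ} {s P N : List ℕ} {k : Cont}
    (hp : stepF C bound v cur s P N k = true) :
    ∃ c s' P' N', k c s' P' N' = true ∧ ∃ u : Subgroup.center G,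
      zlab z P' N' = zlab z P N * u ∧
      w cur * ((sval e s)⁻¹ * sval e s') * (w c)⁻¹ * (u : G)⁻¹ ∈ H := by
  unfold stepF at hp
  simp only [force_eq, andB_eq, ifB_eq, Bool.and_eq_true, Nat.blt_eq] at hp
  obtain ⟨hi, hp⟩ := hp
  have hrel := hF _ hi
  unfold FRel at hrel
  generalize factC C.F (Nat.shiftRight v 1) = f at hp hrel
  cases hb : Nat.beq (Nat.land v 1) 0 with
  | true =>
    rw [hb, cond_true, Bool.and_eq_true, Nat.beq_eq] at hp
    obtain ⟨hcur, hp⟩ := hp
    obtain ⟨s', h1, h2⟩ := pushO_sound hD.inv hD.none hp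
    refine ⟨_, s', _, _, h1, _, zlab_addL z P N _ _, ?_⟩
    rw [h2, inv_mul_cancel_left, ← hcur]
    exact hrel
  | false =>
    rw [hb, cond_false, Bool.and_eq_true, Nat.beq_eq] at hp
    obtain ⟨hcur, hp⟩ := hp
    obtain ⟨s', h1, h2⟩ := pushO_sound hD.inv hD.none hp
    refine ⟨_, s', _, _, h1, _, zlab_addL z P N _ _, ?_⟩
    have hinv := H.inv_mem hrel
    rw [mul_inv_rev, mul_inv_rev, mul_inv_rev, inv_inv, inv_inv, ← mul_assoc (w (fQ f)),
      ← center_comm] at hinv
    rw [h2, inv_mul_cancel_left, hD.inv, ← hcur, zlab_swap, Subgroup.coe_inv, inv_inv]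
    exact hinv

theorem walkF_sound (hD : Hyp C e z) {bound : ℕ} {w : ℕ → G}
    (hF : ∀ i, i < bound → FRel C e z H w i) :
    ∀ (fuel refs cur : ℕ) (s P N : List ℕ) (k : Cont),
      walkF C bound fuel refs cur s P N k = true →
        ∃ c s' P' N', k c s' P' N' = true ∧ ∃ u : Subgroup.center G,
          zlab z P' N' = zlab z P N * u ∧
          w cur * ((sval e s)⁻¹ * sval e s') * (w c)⁻¹ * (u : G)⁻¹ ∈ H := by
  intro fuel
  induction fuel with
  | zero =>
    intro refs cur s P N k hp
    exact ⟨cur, s, P, N, hp, 1, by simp, by simp⟩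
  | succ fuel ih =>
    intro refs cur s P N k hp
    have hd : walkF C bound (fuel + 1) refs cur s P N k = ifB (Nat.beq refs 0) (k cur s P N)
        (force (Nat.sub (Nat.land refs 2097151) 1) fun v =>
          force (Nat.shiftRight refs 21) fun refs' =>
            stepF C bound v cur s P N fun c s' P' N' =>
              walkF C bound fuel refs' c s' P' N' k) := rfl
    rw [hd, ifB_eq] at hp
    cases hb : Nat.beq refs 0 with
    | true =>
      rw [hb, cond_true] at hp
      exact ⟨cur, s, P, N, hp, 1, by simp, by simp⟩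
    | false =>
      rw [hb, cond_false, force_eq, force_eq] at hp
      obtain ⟨c1, s1, P1, N1, h1, u1, e1, m1⟩ := stepF_sound hD hF hp
      obtain ⟨c2, s2, P2, N2, h2, u2, e2, m2⟩ := ih _ _ _ _ _ _ h1
      refine ⟨c2, s2, P2, N2, h2, u1 * u2, by rw [e2, e1, mul_assoc], ?_⟩
      convert rel_comp m1 m2 using 1
      group

theorem isZeroL_sound : ∀ {a : List ℕ}, isZeroL a = true → ∀ i, zpowL z i a = 1 := by
  intro a
  induction a with
  | nil => intro _ i; rfl
  | cons x xs ih =>
    intro h i
    have hd : isZeroL (x :: xs) = andB (Nat.beq x 0) (isZeroL xs) := rfl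
    rw [hd, andB_eq, Bool.and_eq_true] at h
    rw [zpowL, Nat.eq_of_beq_eq_true h.1, pow_zero, one_mul, ih h.2]

/-- representatives of the nodes along the defining facts -/
noncomputable def nodeW (C : LCert) (e : ℕ → G) : ℕ → ℕ → G
  | 0, _ => 1
  | fuel + 1, q =>
    if q = 0 ∨ C.nd < q then 1
    else nodeW C e fuel (fP (factC C.F (q - 1))) * e (fL (factC C.F (q - 1)))

theorem nodeW_def {n : ℕ} (hpd : ∀ j, j < n → fP (factC C.F j) < j + 1) :
    ∀ f q, q < f → q ≤ n → nodeW C e f q = nodeW C e (q + 1) q := by
  intro f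
  induction f using Nat.strong_induction_on with
  | _ f ihf =>
    intro q hq hqk
    obtain ⟨f', rfl⟩ : ∃ f', f = f' + 1 := ⟨f - 1, by omega⟩
    simp only [nodeW]
    split
    · rfl
    · rename_i h0
      push Not at h0
      have := hpd (q - 1) (by omega)
      by_cases h3 : q < f'
      · rw [ihf f' (by omega) _ (by omega) (by omega), ihf q (by omega) _ (by omega) (by omega)]
      · obtain rfl : f' = q := by omega
        rfl

theorem fact_all (hD : Hyp C e z) (hms : ∀ l ∈ C.ms, e l ∈ H) {n : ℕ} (hC : FRange C 0 n) :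
    ∃ w : ℕ → G, w 0 = 1 ∧ ∀ k, k < n → FRel C e z H w k := by
  let w : ℕ → G := fun q => nodeW C e (q + 1) q
  have hw0 : w 0 = 1 := by simp [w, nodeW]
  refine ⟨w, hw0, fun k => ?_⟩
  induction k using Nat.strong_induction_on with
  | _ k ih =>
    intro hk
    obtain ⟨c, hc⟩ := hC k (Nat.zero_le _) hk
    simp only [factOK, force_eq, ifB_eq] at hc
    cases h1 : Nat.blt k C.nd with
    | true =>
      rw [h1, cond_true, defOK] at hc
      simp only [andB_eq, Bool.and_eq_true, Nat.beq_eq, Nat.blt_eq] at hc h1
      obtain ⟨hq, hp, hA, hB⟩ := hc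
      have hpd : ∀ j, j < k + 1 → fP (factC C.F j) < j + 1 := by
        intro j hj
        obtain ⟨c', hc'⟩ := hC j (Nat.zero_le _) (by omega)
        simp only [factOK, force_eq, ifB_eq] at hc'
        rw [show Nat.blt j C.nd = true by rw [Nat.blt_eq]; omega, cond_true, defOK] at hc'
        simp only [andB_eq, Bool.and_eq_true, Nat.blt_eq] at hc'
        exact hc'.2.1
      have key : w (k + 1) = w (fP (factC C.F k)) * e (fL (factC C.F k)) := by
        simp only [w]
        conv_lhs => rw [nodeW, if_neg (by omega), show k + 1 - 1 = k by omega]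
        rw [nodeW_def hpd (k + 1) _ hp (by omega)]
      unfold FRel
      rw [hq, Nat.succ_eq_add_one, key, mul_inv_cancel, zlab, isZeroL_sound hA, isZeroL_sound hB]
      simp
    | false =>
      rw [h1, cond_false] at hc
      cases h2 : Nat.blt k (Nat.add C.nd C.nl) with
      | true =>
        rw [h2, cond_true, loopOK] at hc
        simp only [andB_eq, Bool.and_eq_true, Nat.beq_eq, List.any_eq_true] at hc
        obtain ⟨hp, hq, ⟨m, hm, hl⟩, hA, hB⟩ := hc
        unfold FRel
        rw [hp, hq, hw0, hl, zlab, isZeroL_sound hA, isZeroL_sound hB]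
        simpa using hms m hm
      | false =>
        rw [h2, cond_false, derOK] at hc
        simp only [force_eq] at hc
        obtain ⟨cur, s, P, N, hk', u, hu, hmem⟩ :=
          walkF_sound hD (fun i hi => ih i hi (by omega)) _ _ _ _ _ _ _ hc
        rw [zlab_nil, one_mul] at hu
        simp only [andB_eq, Bool.and_eq_true, Nat.beq_eq] at hk'
        obtain ⟨rfl, hk'⟩ := hk'
        obtain ⟨s1, h3, e1⟩ := pushO_sound hD.inv hD.none hk'
        rw [hD.inv] at e1
        unfold FRel
        simp only [ifB_eq] at h3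
        cases h4 : Nat.beq (Nat.land c 63) 0 with
        | true =>
          rw [h4, cond_true, Bool.and_eq_true] at h3
          rw [isNilS_sound h3.1, eq_mul_inv_iff_mul_eq, one_mul] at e1
          rw [← zlab_eq_of_eqL z h3.2, hu, e1]
          simpa [sval] using hmem
        | false =>
          rw [h4, cond_false, Bool.and_eq_true, List.any_eq_true] at h3
          obtain ⟨⟨j, hj, hjb⟩, h3⟩ := h3
          rw [Nat.beq_eq] at hjb
          subst hjb
          obtain ⟨s2, h5, e2⟩ := pushAllS_sound hD.inv _ _ _ h3
          rw [Bool.and_eq_true] at h5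
          rw [isNilS_sound h5.1, e1, evalW_rotW (Subtype.mem _) (hD.rel _ hj)] at e2
          generalize hρ : zlab z (C.RP.getD _ []) (C.RN.getD _ []) = ρ at e2
          have hS : sval e s * (ρ : G) = e (fL (factC C.F k)) := by
            rw [eq_comm, mul_eq_one_iff_eq_inv] at e2
            rw [← eq_mul_inv_iff_mul_eq]
            exact mul_inv_eq_iff_eq_mul.1 e2 |>.trans (center_comm_inv ρ _).symm
          rw [← zlab_eq_of_eqL z h5.2, zlab_addL, hu, hρ, ← hS]
          simp only [sval, inv_one, one_mul] at hmem
          convert hmem using 1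
          simp only [Subgroup.coe_mul, mul_inv_rev, ← mul_assoc]
          rw [mul_assoc (w (fP (factC C.F k)) * sval e s), ← center_comm ρ]
          group

/-- the label of the combination -/
noncomputable def combL (C : LCert) (cs : List (ℕ × ℕ × ℕ)) : List ℕ × List ℕ :=
  cs.foldr (fun x acc =>
    (addL (addL (scaleL x.2.1 (fA C (factC C.F x.1))) (scaleL x.2.2 (fB C (factC C.F x.1)))) acc.1,
     addL (addL (scaleL x.2.1 (fB C (factC C.F x.1))) (scaleL x.2.2 (fA C (factC C.F x.1)))) acc.2))
    ([], [])

/-- a closed fact -/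
noncomputable def closedOK (C : LCert) (n k : ℕ) : Bool :=
  force (factC C.F k) fun f => andB (Nat.blt k n)
    (andB (Nat.beq (fP f) (fQ f)) (Nat.beq (fL f) 31))

/-- the final check: the combination of closed facts has the label `target` -/
noncomputable def combOK (C : LCert) (n : ℕ) (cs : List (ℕ × ℕ × ℕ)) (target : List ℕ) : Bool :=
  andB (cs.all fun x => closedOK C n x.1)
    (eqL (combL C cs).1 (addL target (combL C cs).2))

/-- a checked fact list puts the central value of the target in the subgroup -/
theorem comb_final (hD : Hyp C e z) (hms : ∀ l ∈ C.ms, e l ∈ H) {n : ℕ}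
    (hC : FRange C 0 n) {cs : List (ℕ × ℕ × ℕ)} {target : List ℕ}
    (hfin : combOK C n cs target = true) : ((zpowL z 0 target : Subgroup.center G) : G) ∈ H := by
  obtain ⟨w, hw0, hw⟩ := fact_all hD hms hC
  rw [combOK, andB_eq, Bool.and_eq_true, List.all_eq_true] at hfin
  have key : ∀ ds, (∀ x ∈ ds, closedOK C n x.1 = true) →
      ((zlab z (combL C ds).1 (combL C ds).2 : Subgroup.center G) : G) ∈ H := by
    intro ds
    induction ds with
    | nil => intro _; simp [combL, zlab_nil]
    | cons x ds ihd =>
      intro hds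
      have hx := hds x List.mem_cons_self
      simp only [closedOK, force_eq, andB_eq, Bool.and_eq_true, Nat.beq_eq, Nat.blt_eq] at hx
      obtain ⟨hn, hp, hl⟩ := hx
      have hr := hw _ hn
      unfold FRel at hr
      rw [hp, hl, hD.none, mul_one, mul_inv_cancel, one_mul, inv_mem_iff] at hr
      have hrest := ihd fun y hy => hds y (List.mem_cons_of_mem _ hy)
      simp only [combL, List.foldr_cons] at hrest ⊢
      rw [zlab_addL, zlab_addL, zlab_scaleL, zlab_scaleL, zlab_swap z (fA C _) (fB C _),
        Subgroup.coe_mul, Subgroup.coe_mul, SubmonoidClass.coe_pow, SubmonoidClass.coe_pow,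
        Subgroup.coe_inv]
      exact H.mul_mem (H.mul_mem (H.pow_mem hr _) (H.pow_mem (H.inv_mem hr) _)) hrest
  have h := key cs hfin.1
  have h' := congrArg (zpowL z 0) (eqL_sound hfin.2)
  rw [zpowL_addL] at h'
  rw [zlab, h', mul_div_cancel_right] at h
  exact h

end Cfsg.Agent.H83.ThMult
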