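import Cfsg.Agent.H83.ThMult.Lifts
import Cfsg.Agent.H83.ThMult.Data.CertA0
import Cfsg.Agent.H83.ThMult.Data.CertA1
import Cfsg.Agent.H83.ThMult.Data.CertA2
import Cfsg.Agent.H83.ThMult.Data.CertA3
import Cfsg.Agent.H83.ThMult.Data.CertA4
import Cfsg.Agent.H83.ThMult.Data.CertA5
import Cfsg.Agent.H83.ThMult.Data.CertA6
import Cfsg.Agent.H83.ThMult.Data.CertA7
import Cfsg.Agent.H83.ThMult.Data.CertA8
import Cfsg.Agent.H83.ThMult.Data.CertA9
import Cfsg.Agent.H83.ThMult.Data.CertA10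
import Cfsg.Agent.H83.ThMult.Data.CertB
import Cfsg.Agent.H83.ThMult.Data.CertC1
import Cfsg.Agent.H83.ThMult.Data.CertC2
import Cfsg.Agent.H83.ThMult.Data.CertD30
import Cfsg.Agent.H83.ThMult.Data.CertD31
import Cfsg.Agent.H83.ThMult.Data.CertP35
import Cfsg.Agent.H83.ThMult.Data.CertP38
import Cfsg.Agent.H83.ThMult.Data.CertR32
import Cfsg.Agent.H83.ThMult.Data.CertR33

/-!
The stages of the certificate: one group of relators after another has trivial defect.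
-/

set_option autoImplicit false

namespace Cfsg.Agent.H83.ThMult

open Cfsg.Spor
open scoped IsMulCommutative

variable {Γ : Type} [Group Γ] {L : Lift Γ}

/-- a checked certificate puts a defect in the subgroup -/
theorem stage_mem {C : LCert} {n : ℕ} {cs : List (ℕ × ℕ × ℕ)} {target : List ℕ} (unk : List ℕ)
    {H : Subgroup Γ} (hW : C.W = relWords)
    (hrel : ∀ r ∈ C.keep, L.D r =
      zlab (fun i => L.D (unk.getD i 0)) (C.RP.getD r []) (C.RN.getD r []))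
    (hms : ∀ l ∈ C.ms, letE L.f l ∈ H) (hC : FRange C 0 n)
    (hfin : combOK C n cs target = true) :
    ((zpowL (fun i => L.D (unk.getD i 0)) 0 target : Subgroup.center Γ) : Γ) ∈ H := by
  refine comb_final ⟨letE_invL L.f, letE_none L.f, fun r hr => ?_⟩ hms hC hfin
  rw [hW, ← hrel r hr]
  rfl

/-- the subgroup generated by the lifts of all generators but `u` -/
def Lift.H7 (L : Lift Γ) : Subgroup Γ := Subgroup.closure (L.f '' {x | x ≠ .u})

theorem Lift.mem_H7 (L : Lift Γ) {x : Th.Gen} (hx : x ≠ .u) : L.f x ∈ L.H7 :=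
  Subgroup.subset_closure ⟨x, hx, rfl⟩

set_option linter.unusedSimpArgs false in
theorem A0_15 (g : Good L)  :
    L.D 15 = 1 := by
  have h := stage_mem (L := L) (H := (⊥ : Subgroup Γ)) (C := certA0) [14, 16, 17, 21, 22, 23, 24, 28, 29, 34, 15] rfl
    (by simp [certA0, zlab, zpowL, g.g10, g.g19, g.g26, g.g20, g.g7, g.g12, g.g5, g.g36])
    (by simp [certA0, letE])
    rangeA0 combA0_15_ok
  simpa [zpowL] using h

set_option linter.unusedSimpArgs false in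
theorem A1_14 (g : Good L) (k15 : L.D 15 = 1) :
    L.D 14 = 1 := by
  have h := stage_mem (L := L) (H := (⊥ : Subgroup Γ)) (C := certA1) [1, 2, 3, 27, 34, 14] rfl
    (by simp [certA1, zlab, zpowL, g.g10, g.g19, g.g26, g.g20, g.g7, g.g12, g.g5, g.g36, k15])
    (by simp [certA1, letE])
    rangeA1 combA1_14_ok
  simpa [zpowL] using h

set_option linter.unusedSimpArgs false in
theorem A2_16 (g : Good L) (k14 : L.D 14 = 1) (k15 : L.D 15 = 1) :
    L.D 16 = 1 := by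
  have h := stage_mem (L := L) (H := (⊥ : Subgroup Γ)) (C := certA2) [17, 21, 22, 23, 24, 28, 29, 34, 16] rfl
    (by simp [certA2, zlab, zpowL, g.g10, g.g19, g.g26, g.g20, g.g7, g.g12, g.g5, g.g36, k14, k15])
    (by simp [certA2, letE])
    rangeA2 combA2_16_ok
  simpa [zpowL] using h

set_option linter.unusedSimpArgs false in
theorem A3_17 (g : Good L) (k14 : L.D 14 = 1) (k15 : L.D 15 = 1) (k16 : L.D 16 = 1) :
    L.D 17 = 1 := by
  have h := stage_mem (L := L) (H := (⊥ : Subgroup Γ)) (C := certA3) [1, 2, 3, 27, 34, 17] rfl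
    (by simp [certA3, zlab, zpowL, g.g10, g.g19, g.g26, g.g20, g.g7, g.g12, g.g5, g.g36, k14, k15, k16])
    (by simp [certA3, letE])
    rangeA3 combA3_17_ok
  simpa [zpowL] using h

set_option linter.unusedSimpArgs false in
theorem A4_21 (g : Good L) (k14 : L.D 14 = 1) (k15 : L.D 15 = 1) (k16 : L.D 16 = 1) (k17 : L.D 17 = 1) :
    L.D 21 = 1 := by
  have h := stage_mem (L := L) (H := (⊥ : Subgroup Γ)) (C := certA4) [22, 23, 24, 28, 29, 34, 21] rfl
    (by simp [certA4, zlab, zpowL, g.g10, g.g19, g.g26, g.g20, g.g7, g.g12, g.g5, g.g36, k14, k15, k16, k17])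
    (by simp [certA4, letE])
    rangeA4 combA4_21_ok
  simpa [zpowL] using h

set_option linter.unusedSimpArgs false in
theorem A5_22 (g : Good L) (k14 : L.D 14 = 1) (k15 : L.D 15 = 1) (k16 : L.D 16 = 1) (k17 : L.D 17 = 1) (k21 : L.D 21 = 1) :
    L.D 22 = 1 := by
  have h := stage_mem (L := L) (H := (⊥ : Subgroup Γ)) (C := certA5) [1, 2, 3, 27, 34, 22] rfl
    (by simp [certA5, zlab, zpowL, g.g10, g.g19, g.g26, g.g20, g.g7, g.g12, g.g5, g.g36, k14, k15, k16, k17, k21])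
    (by simp [certA5, letE])
    rangeA5 combA5_22_ok
  simpa [zpowL] using h

set_option linter.unusedSimpArgs false in
theorem A6_23 (g : Good L) (k14 : L.D 14 = 1) (k15 : L.D 15 = 1) (k16 : L.D 16 = 1) (k17 : L.D 17 = 1) (k21 : L.D 21 = 1) (k22 : L.D 22 = 1) :
    L.D 23 = 1 := by
  have h := stage_mem (L := L) (H := (⊥ : Subgroup Γ)) (C := certA6) [1, 2, 3, 27, 34, 23] rfl
    (by simp [certA6, zlab, zpowL, g.g10, g.g19, g.g26, g.g20, g.g7, g.g12, g.g5, g.g36, k14, k15, k16, k17, k21, k22])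
    (by simp [certA6, letE])
    rangeA6 combA6_23_ok
  simpa [zpowL] using h

set_option linter.unusedSimpArgs false in
theorem A7_24 (g : Good L) (k14 : L.D 14 = 1) (k15 : L.D 15 = 1) (k16 : L.D 16 = 1) (k17 : L.D 17 = 1) (k21 : L.D 21 = 1) (k22 : L.D 22 = 1) (k23 : L.D 23 = 1) :
    L.D 24 = 1 := by
  have h := stage_mem (L := L) (H := (⊥ : Subgroup Γ)) (C := certA7) [1, 2, 3, 27, 34, 24] rfl
    (by simp [certA7, zlab, zpowL, g.g10, g.g19, g.g26, g.g20, g.g7, g.g12, g.g5, g.g36, k14, k15, k16, k17, k21, k22, k23])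
    (by simp [certA7, letE])
    rangeA7 combA7_24_ok
  simpa [zpowL] using h

set_option linter.unusedSimpArgs false in
theorem A8_28 (g : Good L) (k14 : L.D 14 = 1) (k15 : L.D 15 = 1) (k16 : L.D 16 = 1) (k17 : L.D 17 = 1) (k21 : L.D 21 = 1) (k22 : L.D 22 = 1) (k23 : L.D 23 = 1) (k24 : L.D 24 = 1) :
    L.D 28 = 1 := by
  have h := stage_mem (L := L) (H := (⊥ : Subgroup Γ)) (C := certA8) [1, 2, 3, 27, 34, 28] rfl
    (by simp [certA8, zlab, zpowL, g.g10, g.g19, g.g26, g.g20, g.g7, g.g12, g.g5, g.g36, k14, k15, k16, k17, k21, k22, k23, k24])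
    (by simp [certA8, letE])
    rangeA8 combA8_28_ok
  simpa [zpowL] using h

set_option linter.unusedSimpArgs false in
theorem A9_29 (g : Good L) (k14 : L.D 14 = 1) (k15 : L.D 15 = 1) (k16 : L.D 16 = 1) (k17 : L.D 17 = 1) (k21 : L.D 21 = 1) (k22 : L.D 22 = 1) (k23 : L.D 23 = 1) (k24 : L.D 24 = 1) (k28 : L.D 28 = 1) :
    L.D 29 = 1 := by
  have h := stage_mem (L := L) (H := (⊥ : Subgroup Γ)) (C := certA9) [1, 2, 3, 27, 34, 29] rfl
    (by simp [certA9, zlab, zpowL, g.g10, g.g19, g.g26, g.g20, g.g7, g.g12, g.g5, g.g36, k14, k15, k16, k17, k21, k22, k23, k24, k28])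
    (by simp [certA9, letE])
    rangeA9 combA9_29_ok
  simpa [zpowL] using h

set_option linter.unusedSimpArgs false in
theorem A10_34 (g : Good L) (k14 : L.D 14 = 1) (k15 : L.D 15 = 1) (k16 : L.D 16 = 1) (k17 : L.D 17 = 1) (k21 : L.D 21 = 1) (k22 : L.D 22 = 1) (k23 : L.D 23 = 1) (k24 : L.D 24 = 1) (k28 : L.D 28 = 1) (k29 : L.D 29 = 1) :
    L.D 34 = 1 := by
  have h := stage_mem (L := L) (H := (⊥ : Subgroup Γ)) (C := certA10) [34] rfl
    (by simp [certA10, zlab, zpowL, g.g10, g.g19, g.g26, g.g20, g.g7, g.g12, g.g5, g.g36, k14, k15, k16, k17, k21, k22, k23, k24, k28, k29])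
    (by simp [certA10, letE])
    rangeA10 combA10_34_ok
  simpa [zpowL] using h

set_option linter.unusedSimpArgs false in
theorem B_3 (g : Good L) (k14 : L.D 14 = 1) (k24 : L.D 24 = 1) (k34 : L.D 34 = 1) :
    L.D 3 = 1 := by
  have h := stage_mem (L := L) (H := (⊥ : Subgroup Γ)) (C := certB) [3, 4, 18, 25] rfl
    (by simp [certB, zlab, zpowL, g.g10, g.g19, g.g26, g.g20, g.g7, g.g12, g.g5, g.g36, k14, k24, k34])
    (by simp [certB, letE])
    rangeB combB_3_ok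
  simpa [zpowL] using h

set_option linter.unusedSimpArgs false in
theorem B_4 (g : Good L) (k14 : L.D 14 = 1) (k24 : L.D 24 = 1) (k34 : L.D 34 = 1) :
    L.D 4 = 1 := by
  have h := stage_mem (L := L) (H := (⊥ : Subgroup Γ)) (C := certB) [3, 4, 18, 25] rfl
    (by simp [certB, zlab, zpowL, g.g10, g.g19, g.g26, g.g20, g.g7, g.g12, g.g5, g.g36, k14, k24, k34])
    (by simp [certB, letE])
    rangeB combB_4_ok
  simpa [zpowL] using h

set_option linter.unusedSimpArgs false in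
theorem B_18 (g : Good L) (k14 : L.D 14 = 1) (k24 : L.D 24 = 1) (k34 : L.D 34 = 1) :
    L.D 18 = 1 := by
  have h := stage_mem (L := L) (H := (⊥ : Subgroup Γ)) (C := certB) [3, 4, 18, 25] rfl
    (by simp [certB, zlab, zpowL, g.g10, g.g19, g.g26, g.g20, g.g7, g.g12, g.g5, g.g36, k14, k24, k34])
    (by simp [certB, letE])
    rangeB combB_18_ok
  simpa [zpowL] using h

set_option linter.unusedSimpArgs false in
theorem B_25 (g : Good L) (k14 : L.D 14 = 1) (k24 : L.D 24 = 1) (k34 : L.D 34 = 1) :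
    L.D 25 = 1 := by
  have h := stage_mem (L := L) (H := (⊥ : Subgroup Γ)) (C := certB) [3, 4, 18, 25] rfl
    (by simp [certB, zlab, zpowL, g.g10, g.g19, g.g26, g.g20, g.g7, g.g12, g.g5, g.g36, k14, k24, k34])
    (by simp [certB, letE])
    rangeB combB_25_ok
  simpa [zpowL] using h

set_option linter.unusedSimpArgs false in
theorem C1_0 (g : Good L) (k3 : L.D 3 = 1) (k4 : L.D 4 = 1) :
    L.D 0 = 1 := by
  have h := stage_mem (L := L) (H := (⊥ : Subgroup Γ)) (C := certC1) [13, 0, 1, 2, 6, 8, 9, 11] rfl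
    (by simp [certC1, zlab, zpowL, g.g10, g.g19, g.g26, g.g20, g.g7, g.g12, g.g5, g.g36, k3, k4])
    (by simp [certC1, letE])
    rangeC1 combC1_0_ok
  simpa [zpowL] using h

set_option linter.unusedSimpArgs false in
theorem C1_1 (g : Good L) (k3 : L.D 3 = 1) (k4 : L.D 4 = 1) :
    L.D 1 = 1 := by
  have h := stage_mem (L := L) (H := (⊥ : Subgroup Γ)) (C := certC1) [13, 0, 1, 2, 6, 8, 9, 11] rfl
    (by simp [certC1, zlab, zpowL, g.g10, g.g19, g.g26, g.g20, g.g7, g.g12, g.g5, g.g36, k3, k4])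
    (by simp [certC1, letE])
    rangeC1 combC1_1_ok
  simpa [zpowL] using h

set_option linter.unusedSimpArgs false in
theorem C1_2 (g : Good L) (k3 : L.D 3 = 1) (k4 : L.D 4 = 1) :
    L.D 2 = 1 := by
  have h := stage_mem (L := L) (H := (⊥ : Subgroup Γ)) (C := certC1) [13, 0, 1, 2, 6, 8, 9, 11] rfl
    (by simp [certC1, zlab, zpowL, g.g10, g.g19, g.g26, g.g20, g.g7, g.g12, g.g5, g.g36, k3, k4])
    (by simp [certC1, letE])
    rangeC1 combC1_2_ok
  simpa [zpowL] using h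

set_option linter.unusedSimpArgs false in
theorem C1_6 (g : Good L) (k3 : L.D 3 = 1) (k4 : L.D 4 = 1) :
    L.D 6 = 1 := by
  have h := stage_mem (L := L) (H := (⊥ : Subgroup Γ)) (C := certC1) [13, 0, 1, 2, 6, 8, 9, 11] rfl
    (by simp [certC1, zlab, zpowL, g.g10, g.g19, g.g26, g.g20, g.g7, g.g12, g.g5, g.g36, k3, k4])
    (by simp [certC1, letE])
    rangeC1 combC1_6_ok
  simpa [zpowL] using h

set_option linter.unusedSimpArgs false in
theorem C1_8 (g : Good L) (k3 : L.D 3 = 1) (k4 : L.D 4 = 1) :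
    L.D 8 = 1 := by
  have h := stage_mem (L := L) (H := (⊥ : Subgroup Γ)) (C := certC1) [13, 0, 1, 2, 6, 8, 9, 11] rfl
    (by simp [certC1, zlab, zpowL, g.g10, g.g19, g.g26, g.g20, g.g7, g.g12, g.g5, g.g36, k3, k4])
    (by simp [certC1, letE])
    rangeC1 combC1_8_ok
  simpa [zpowL] using h

set_option linter.unusedSimpArgs false in
theorem C1_9 (g : Good L) (k3 : L.D 3 = 1) (k4 : L.D 4 = 1) :
    L.D 9 = 1 := by
  have h := stage_mem (L := L) (H := (⊥ : Subgroup Γ)) (C := certC1) [13, 0, 1, 2, 6, 8, 9, 11] rfl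
    (by simp [certC1, zlab, zpowL, g.g10, g.g19, g.g26, g.g20, g.g7, g.g12, g.g5, g.g36, k3, k4])
    (by simp [certC1, letE])
    rangeC1 combC1_9_ok
  simpa [zpowL] using h

set_option linter.unusedSimpArgs false in
theorem C1_11 (g : Good L) (k3 : L.D 3 = 1) (k4 : L.D 4 = 1) :
    L.D 11 = 1 := by
  have h := stage_mem (L := L) (H := (⊥ : Subgroup Γ)) (C := certC1) [13, 0, 1, 2, 6, 8, 9, 11] rfl
    (by simp [certC1, zlab, zpowL, g.g10, g.g19, g.g26, g.g20, g.g7, g.g12, g.g5, g.g36, k3, k4])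
    (by simp [certC1, letE])
    rangeC1 combC1_11_ok
  simpa [zpowL] using h

set_option linter.unusedSimpArgs false in
theorem C2_13 (g : Good L) (k0 : L.D 0 = 1) (k1 : L.D 1 = 1) (k2 : L.D 2 = 1) (k3 : L.D 3 = 1) (k4 : L.D 4 = 1) (k6 : L.D 6 = 1) (k8 : L.D 8 = 1) (k9 : L.D 9 = 1) (k11 : L.D 11 = 1) :
    (L.D 13 : Γ) ∈ Subgroup.zpowers (L.f .c) := by
  have h := stage_mem (L := L) (H := Subgroup.zpowers (L.f .c)) (C := certC2) [13] rfl
    (by simp [certC2, zlab, zpowL, g.g10, g.g19, g.g26, g.g20, g.g7, g.g12, g.g5, g.g36, k0, k1, k2, k3, k4, k6, k8, k9, k11])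
    (by simp [certC2, letE, Subgroup.mem_zpowers])
    rangeC2 combC2_13_ok
  simpa [zpowL] using h

set_option linter.unusedSimpArgs false in
theorem D30_30 (g : Good L) (k0 : L.D 0 = 1) (k1 : L.D 1 = 1) (k2 : L.D 2 = 1) (k3 : L.D 3 = 1) (k4 : L.D 4 = 1) (k6 : L.D 6 = 1) (k8 : L.D 8 = 1) (k9 : L.D 9 = 1) (k11 : L.D 11 = 1) (k13 : L.D 13 = 1) (k28 : L.D 28 = 1) (k29 : L.D 29 = 1) :
    (L.D 30 : Γ) ∈ L.H7 := by
  have h := stage_mem (L := L) (H := L.H7) (C := certD30) [27, 31, 32, 33, 30] rfl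
    (by simp [certD30, zlab, zpowL, g.g10, g.g19, g.g26, g.g20, g.g7, g.g12, g.g5, g.g36, k0, k1, k2, k3, k4, k6, k8, k9, k11, k13, k28, k29])
    (by simp [certD30, letE, L.mem_H7])
    rangeD30 combD30_30_ok
  simpa [zpowL] using h

set_option linter.unusedSimpArgs false in
theorem D31_31 (g : Good L) (k0 : L.D 0 = 1) (k1 : L.D 1 = 1) (k2 : L.D 2 = 1) (k3 : L.D 3 = 1) (k4 : L.D 4 = 1) (k6 : L.D 6 = 1) (k8 : L.D 8 = 1) (k9 : L.D 9 = 1) (k11 : L.D 11 = 1) (k13 : L.D 13 = 1) (k28 : L.D 28 = 1) (k29 : L.D 29 = 1) (k30 : L.D 30 = 1) :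
    (L.D 31 : Γ) ∈ L.H7 := by
  have h := stage_mem (L := L) (H := L.H7) (C := certD31) [27, 32, 33, 31] rfl
    (by simp [certD31, zlab, zpowL, g.g10, g.g19, g.g26, g.g20, g.g7, g.g12, g.g5, g.g36, k0, k1, k2, k3, k4, k6, k8, k9, k11, k13, k28, k29, k30])
    (by simp [certD31, letE, L.mem_H7])
    rangeD31 combD31_31_ok
  simpa [zpowL] using h

set_option linter.unusedSimpArgs false in
theorem P35_35 (g : Good L) (k0 : L.D 0 = 1) (k2 : L.D 2 = 1) (k3 : L.D 3 = 1) (k4 : L.D 4 = 1) (k6 : L.D 6 = 1) (k11 : L.D 11 = 1) (k14 : L.D 14 = 1) (k15 : L.D 15 = 1) (k17 : L.D 17 = 1) (k18 : L.D 18 = 1) (k21 : L.D 21 = 1) (k23 : L.D 23 = 1) (k24 : L.D 24 = 1) (k25 : L.D 25 = 1) (k28 : L.D 28 = 1) (k29 : L.D 29 = 1) (k30 : L.D 30 = 1) (k31 : L.D 31 = 1) (k34 : L.D 34 = 1) :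
    (L.D 35 : Γ) ∈ L.H7 := by
  have h := stage_mem (L := L) (H := L.H7) (C := certP35) [27, 37, 38, 35] rfl
    (by simp [certP35, zlab, zpowL, g.g10, g.g19, g.g26, g.g20, g.g7, g.g12, g.g5, g.g36, k0, k2, k3, k4, k6, k11, k14, k15, k17, k18, k21, k23, k24, k25, k28, k29, k30, k31, k34])
    (by simp [certP35, letE, L.mem_H7])
    rangeP35 combP35_35_ok
  simpa [zpowL] using h

set_option linter.unusedSimpArgs false in
theorem P38_27 (g : Good L) (k0 : L.D 0 = 1) (k2 : L.D 2 = 1) (k3 : L.D 3 = 1) (k4 : L.D 4 = 1) (k6 : L.D 6 = 1) (k11 : L.D 11 = 1) (k14 : L.D 14 = 1) (k15 : L.D 15 = 1) (k17 : L.D 17 = 1) (k18 : L.D 18 = 1) (k21 : L.D 21 = 1) (k23 : L.D 23 = 1) (k24 : L.D 24 = 1) (k25 : L.D 25 = 1) (k28 : L.D 28 = 1) (k29 : L.D 29 = 1) (k30 : L.D 30 = 1) (k31 : L.D 31 = 1) (k34 : L.D 34 = 1) (k35 : L.D 35 = 1) :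
    (L.D 27 : Γ) ∈ L.H7 := by
  have h := stage_mem (L := L) (H := L.H7) (C := certP38) [27, 37, 38] rfl
    (by simp [certP38, zlab, zpowL, g.g10, g.g19, g.g26, g.g20, g.g7, g.g12, g.g5, g.g36, k0, k2, k3, k4, k6, k11, k14, k15, k17, k18, k21, k23, k24, k25, k28, k29, k30, k31, k34, k35])
    (by simp [certP38, letE, L.mem_H7])
    rangeP38 combP38_27_ok
  simpa [zpowL] using h

set_option linter.unusedSimpArgs false in
theorem P38_37 (g : Good L) (k0 : L.D 0 = 1) (k2 : L.D 2 = 1) (k3 : L.D 3 = 1) (k4 : L.D 4 = 1) (k6 : L.D 6 = 1) (k11 : L.D 11 = 1) (k14 : L.D 14 = 1) (k15 : L.D 15 = 1) (k17 : L.D 17 = 1) (k18 : L.D 18 = 1) (k21 : L.D 21 = 1) (k23 : L.D 23 = 1) (k24 : L.D 24 = 1) (k25 : L.D 25 = 1) (k28 : L.D 28 = 1) (k29 : L.D 29 = 1) (k30 : L.D 30 = 1) (k31 : L.D 31 = 1) (k34 : L.D 34 = 1) (k35 : L.D 35 = 1) :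
    (L.D 37 : Γ) ∈ L.H7 := by
  have h := stage_mem (L := L) (H := L.H7) (C := certP38) [27, 37, 38] rfl
    (by simp [certP38, zlab, zpowL, g.g10, g.g19, g.g26, g.g20, g.g7, g.g12, g.g5, g.g36, k0, k2, k3, k4, k6, k11, k14, k15, k17, k18, k21, k23, k24, k25, k28, k29, k30, k31, k34, k35])
    (by simp [certP38, letE, L.mem_H7])
    rangeP38 combP38_37_ok
  simpa [zpowL] using h

set_option linter.unusedSimpArgs false in
theorem P38_38 (g : Good L) (k0 : L.D 0 = 1) (k2 : L.D 2 = 1) (k3 : L.D 3 = 1) (k4 : L.D 4 = 1) (k6 : L.D 6 = 1) (k11 : L.D 11 = 1) (k14 : L.D 14 = 1) (k15 : L.D 15 = 1) (k17 : L.D 17 = 1) (k18 : L.D 18 = 1) (k21 : L.D 21 = 1) (k23 : L.D 23 = 1) (k24 : L.D 24 = 1) (k25 : L.D 25 = 1) (k28 : L.D 28 = 1) (k29 : L.D 29 = 1) (k30 : L.D 30 = 1) (k31 : L.D 31 = 1) (k34 : L.D 34 = 1) (k35 : L.D 35 = 1) :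
    (L.D 38 : Γ) ∈ L.H7 := by
  have h := stage_mem (L := L) (H := L.H7) (C := certP38) [27, 37, 38] rfl
    (by simp [certP38, zlab, zpowL, g.g10, g.g19, g.g26, g.g20, g.g7, g.g12, g.g5, g.g36, k0, k2, k3, k4, k6, k11, k14, k15, k17, k18, k21, k23, k24, k25, k28, k29, k30, k31, k34, k35])
    (by simp [certP38, letE, L.mem_H7])
    rangeP38 combP38_38_ok
  simpa [zpowL] using h

set_option linter.unusedSimpArgs false in
theorem R32_32 (g : Good L) (k0 : L.D 0 = 1) (k1 : L.D 1 = 1) (k2 : L.D 2 = 1) (k3 : L.D 3 = 1) (k4 : L.D 4 = 1) (k6 : L.D 6 = 1) (k8 : L.D 8 = 1) (k9 : L.D 9 = 1) (k11 : L.D 11 = 1) (k13 : L.D 13 = 1) (k14 : L.D 14 = 1) (k15 : L.D 15 = 1) (k16 : L.D 16 = 1) (k17 : L.D 17 = 1) (k18 : L.D 18 = 1) (k21 : L.D 21 = 1) (k22 : L.D 22 = 1) (k23 : L.D 23 = 1) (k24 : L.D 24 = 1) (k25 : L.D 25 = 1) (k27 : L.D 27 = 1) (k28 : L.D 28 = 1) (k29 : L.D 29 = 1) (k30 : L.D 30 = 1) (k31 : L.D 31 = 1) (k34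 : L.D 34 = 1) (k35 : L.D 35 = 1) (k37 : L.D 37 = 1) (k38 : L.D 38 = 1) :
    (L.D 32 : Γ) ∈ L.H7 := by
  have h := stage_mem (L := L) (H := L.H7) (C := certR32) [33, 32] rfl
    (by simp [certR32, zlab, zpowL, g.g10, g.g19, g.g26, g.g20, g.g7, g.g12, g.g5, g.g36, k0, k1, k2, k3, k4, k6, k8, k9, k11, k13, k14, k15, k16, k17, k18, k21, k22, k23, k24, k25, k27, k28, k29, k30, k31, k34, k35, k37, k38])
    (by simp [certR32, letE, L.mem_H7])
    rangeR32 combR32_32_ok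
  simpa [zpowL] using h

set_option linter.unusedSimpArgs false in
theorem R33_33 (g : Good L) (k0 : L.D 0 = 1) (k1 : L.D 1 = 1) (k2 : L.D 2 = 1) (k3 : L.D 3 = 1) (k4 : L.D 4 = 1) (k6 : L.D 6 = 1) (k8 : L.D 8 = 1) (k9 : L.D 9 = 1) (k11 : L.D 11 = 1) (k13 : L.D 13 = 1) (k27 : L.D 27 = 1) (k28 : L.D 28 = 1) (k29 : L.D 29 = 1) (k30 : L.D 30 = 1) (k31 : L.D 31 = 1) (k32 : L.D 32 = 1) :
    (L.D 33 : Γ) ∈ L.H7 := by
  have h := stage_mem (L := L) (H := L.H7) (C := certR33) [33] rfl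
    (by simp [certR33, zlab, zpowL, g.g10, g.g19, g.g26, g.g20, g.g7, g.g12, g.g5, g.g36, k0, k1, k2, k3, k4, k6, k8, k9, k11, k13, k27, k28, k29, k30, k31, k32])
    (by simp [certR33, letE, L.mem_H7])
    rangeR33 combR33_33_ok
  simpa [zpowL] using h

end Cfsg.Agent.H83.ThMult
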