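import Cfsg.Agent.H25.Fi23.Table

/-!
Words in sixteen letters (a letter and its inverse differ in the last bit), reduction stacks and
labels with values in a commutative group, for the kernel certificates on central extensions.
-/

set_option autoImplicit false

namespace Cfsg.Agent.H83.ThMult

open Cfsg.Agent.H25.Fi23 (andB andB_eq ifB ifB_eq)
open Cfsg.Agent.H45 (force force_eq evalW evalW_cons evalW_nil evalW_append)

/-- formal inverse of a letter; `31` stands for no letter -/
noncomputable def invL (l : ℕ) : ℕ := ifB (Nat.beq l 31) 31 (Nat.xor l 1)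

variable {G : Type*} [Group G]

/-- value of a reduction stack (the top is the last factor) -/
def sval (e : ℕ → G) : List ℕ → G
  | [] => 1
  | x :: s => sval e s * e x

/-- push one letter on a reduced stack -/
noncomputable def pushS (x : ℕ) (s : List ℕ) (k : List ℕ → Bool) : Bool :=
  List.rec (k [x]) (fun h t _ => ifB (Nat.beq (invL h) x) (k t) (k (x :: h :: t))) s

theorem pushS_sound {e : ℕ → G} (h : ∀ l, e (invL l) = (e l)⁻¹) {x : ℕ} {s : List ℕ}
    {k : List ℕ → Bool} (hp : pushS x s k = true) :
    ∃ s', k s' = true ∧ sval e s' = sval e s * e x := by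
  cases s with
  | nil => exact ⟨[x], hp, by simp [sval]⟩
  | cons a t =>
    have hd : pushS x (a :: t) k = ifB (Nat.beq (invL a) x) (k t) (k (x :: a :: t)) := rfl
    rw [hd, ifB_eq] at hp
    cases hb : Nat.beq (invL a) x with
    | true =>
      rw [hb, cond_true] at hp
      refine ⟨t, hp, ?_⟩
      rw [← Nat.eq_of_beq_eq_true hb]
      simp [sval, h]
    | false =>
      rw [hb, cond_false] at hp
      exact ⟨_, hp, by simp [sval]⟩

/-- push an optional letter -/
noncomputable def pushO (l : ℕ) (s : List ℕ) (k : List ℕ → Bool) : Bool :=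
  ifB (Nat.beq l 31) (k s) (pushS l s k)

theorem pushO_sound {e : ℕ → G} (h : ∀ l, e (invL l) = (e l)⁻¹) (h31 : e 31 = 1) {l : ℕ}
    {s : List ℕ} {k : List ℕ → Bool}
    (hp : pushO l s k = true) : ∃ s', k s' = true ∧ sval e s' = sval e s * e l := by
  unfold pushO at hp
  rw [ifB_eq] at hp
  cases hb : Nat.beq l 31 with
  | true =>
    rw [hb, cond_true] at hp
    exact ⟨s, hp, by rw [Nat.eq_of_beq_eq_true hb, h31, mul_one]⟩
  | false =>
    rw [hb, cond_false] at hp
    exact pushS_sound h hp

/-- push a word -/
noncomputable def pushAllS (w : List ℕ) : List ℕ → (List ℕ → Bool) → Bool :=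
  List.rec (fun s k => k s) (fun x _ ih s k => force x fun x' => pushS x' s fun s' => ih s' k) w

theorem pushAllS_sound {e : ℕ → G} (h : ∀ l, e (invL l) = (e l)⁻¹) :
    ∀ (w s : List ℕ) (k : List ℕ → Bool), pushAllS w s k = true →
      ∃ s', k s' = true ∧ sval e s' = sval e s * evalW e w := by
  intro w
  induction w with
  | nil => intro s k hp; exact ⟨s, hp, by simp [evalW]⟩
  | cons x w ih =>
    intro s k hp
    have hd : pushAllS (x :: w) s k = force x fun x' => pushS x' s fun s' => pushAllS w s' k := rfl
    rw [hd, force_eq] at hp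
    obtain ⟨s1, h1, e1⟩ := pushS_sound h hp
    obtain ⟨s2, h2, e2⟩ := ih _ _ h1
    exact ⟨s2, h2, by rw [e2, e1, evalW_cons, mul_assoc]⟩

/-- the empty list -/
noncomputable def isNilS (s : List ℕ) : Bool := List.rec true (fun _ _ _ => false) s

theorem isNilS_sound {e : ℕ → G} {s : List ℕ} (h : isNilS s = true) : sval e s = 1 := by
  cases s with
  | nil => rfl
  | cons a t => exact absurd h (by simp [isNilS])

/-- rotation of a word -/
def rotW (i : ℕ) (w : List ℕ) : List ℕ := w.drop i ++ w.take i

/-- a rotation of a word with central value has the same value -/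
theorem evalW_rotW {e : ℕ → G} {w : List ℕ} {z : G} (hz : z ∈ Subgroup.center G)
    (h : evalW e w = z) (i : ℕ) : evalW e (rotW i w) = z := by
  conv_lhs at h => rw [← List.take_append_drop i w, evalW_append]
  rw [rotW, evalW_append]
  have h1 : evalW e (w.drop i) = (evalW e (w.take i))⁻¹ * z := eq_inv_mul_of_mul_eq h
  rw [h1, mul_assoc, Subgroup.mem_center_iff.1 hz (evalW e (w.take i)) |>.symm, inv_mul_cancel_left]

/-! ### Labels -/

/-- sum of two exponent lists -/
def addL : List ℕ → List ℕ → List ℕ
  | [], b => b
  | a :: as, [] => a :: as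
  | a :: as, b :: bs => Nat.add a b :: addL as bs

/-- scalar multiple of an exponent list -/
def scaleL (c : ℕ) : List ℕ → List ℕ
  | [] => []
  | a :: as => Nat.mul c a :: scaleL c as

/-- equality of exponent lists -/
noncomputable def eqL (a : List ℕ) : List ℕ → Bool :=
  List.rec (fun b => isNilS b)
    (fun x _ ih b => List.rec false (fun y bs _ => andB (Nat.beq x y) (ih bs)) b) a

theorem eqL_sound : ∀ {a b : List ℕ}, eqL a b = true → a = b := by
  intro a
  induction a with
  | nil =>
    intro b h
    cases b with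
    | nil => rfl
    | cons y bs => exact absurd h (by simp [eqL, isNilS])
  | cons x xs ih =>
    intro b h
    cases b with
    | nil => exact absurd h (by simp [eqL])
    | cons y bs =>
      have hd : eqL (x :: xs) (y :: bs) = andB (Nat.beq x y) (eqL xs bs) := rfl
      rw [hd, andB_eq, Bool.and_eq_true] at h
      rw [Nat.eq_of_beq_eq_true h.1, ih h.2]

variable {A : Type*} [CommGroup A]

/-- value of an exponent list -/
def zpowL (z : ℕ → A) : ℕ → List ℕ → A
  | _, [] => 1
  | i, x :: t => z i ^ x * zpowL z (i + 1) t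

theorem zpowL_addL (z : ℕ → A) : ∀ (a b : List ℕ) (i : ℕ),
    zpowL z i (addL a b) = zpowL z i a * zpowL z i b := by
  intro a
  induction a with
  | nil => intro b i; simp [addL, zpowL]
  | cons x xs ih =>
    intro b i
    cases b with
    | nil => simp [addL, zpowL]
    | cons y ys =>
      simp only [addL, zpowL, Nat.add_eq, pow_add, ih]
      exact mul_mul_mul_comm _ _ _ _

theorem zpowL_scaleL (z : ℕ → A) (c : ℕ) : ∀ (a : List ℕ) (i : ℕ),
    zpowL z i (scaleL c a) = zpowL z i a ^ c := by
  intro a
  induction a with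
  | nil => intro i; simp [scaleL, zpowL]
  | cons x xs ih =>
    intro i
    simp only [scaleL, zpowL, Nat.mul_eq, ih, mul_pow, ← pow_mul, Nat.mul_comm c x]

/-- value of a label, given as a pair of exponent lists -/
def zlab (z : ℕ → A) (P N : List ℕ) : A := zpowL z 0 P / zpowL z 0 N

theorem zlab_addL (z : ℕ → A) (P N P' N' : List ℕ) :
    zlab z (addL P P') (addL N N') = zlab z P N * zlab z P' N' := by
  simp only [zlab, zpowL_addL, mul_div_mul_comm]

theorem zlab_swap (z : ℕ → A) (P N : List ℕ) : zlab z N P = (zlab z P N)⁻¹ := by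
  simp only [zlab, inv_div]

theorem zlab_scaleL (z : ℕ → A) (c : ℕ) (P N : List ℕ) :
    zlab z (scaleL c P) (scaleL c N) = zlab z P N ^ c := by
  simp only [zlab, zpowL_scaleL, div_pow]

/-- two labels agree if the crossed sums agree -/
theorem zlab_eq_of_eqL (z : ℕ → A) {P N P' N' : List ℕ}
    (h : eqL (addL P N') (addL P' N) = true) : zlab z P N = zlab z P' N' := by
  have h' := congrArg (zpowL z 0) (eqL_sound h)
  simp only [zpowL_addL] at h'
  rw [zlab, zlab, div_eq_div_iff_mul_eq_mul, h']

theorem zlab_nil (z : ℕ → A) : zlab z [] [] = 1 := by simp [zlab, zpowL]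

end Cfsg.Agent.H83.ThMult
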